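import Cfsg.Agent.Lib.TrialityIso.Spectral
import Mathlib.LinearAlgebra.Matrix.Charpoly.LinearMap
import Mathlib.GroupTheory.OrderOfElement
import Mathlib.Algebra.Polynomial.Roots
import Mathlib.FieldTheory.Finite.Basic
import Mathlib.Tactic.NormNum.Prime

/-!
Bounds on the fixed spaces of the triality-compatible matrices of odd order, and the behaviour of the
commuting unipotent elements on them.
-/

set_option autoImplicit false
set_option linter.unusedSectionVars false

set_option linter.style.haveILetI false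

namespace CfsgLib.TrialityIso

open Matrix Module

variable {K : Type*} [Field K] [CharP K 2]

/-- Residues of plus and minus the powers of two. -/
def orb (d : ℕ) : Finset ℕ :=
  (Finset.range 12).image (fun i => 2 ^ i % d) ∪ (Finset.range 12).image (fun i => d - 2 ^ i % d)

section Count

variable {E : Type*} [Field E] [Algebra K E]
variable {s : Matrix Pts Pts K}

open scoped Classical in
theorem finrank_fix_le_count : finrank K (fixS s) ≤ (eig E s).count 1 := by
  classical
  rw [eig, Polynomial.count_roots]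
  have h1 : fixS s ≤ Module.End.eigenspace (Matrix.toLin' s) 1 := fun v hv => by
    rw [Module.End.mem_eigenspace_iff, Matrix.toLin'_apply, one_smul]
    exact mem_fixS.1 hv
  refine (Submodule.finrank_mono h1).trans ((LinearMap.finrank_eigenspace_le _ _).trans ?_)
  rw [Matrix.charpoly_toLin']
  have h := Polynomial.le_rootMultiplicity_map (p := s.charpoly)
    ((Polynomial.map_ne_zero_iff (algebraMap K E).injective).2 (Matrix.charpoly_monic s).ne_zero)
    (1 : K)
  simpa using h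

theorem card_add_fix_le {S : Finset E} (hS : ∀ l ∈ S, l ∈ eig E s) (h1 : (1 : E) ∉ S) :
    S.card + finrank K (fixS s) ≤ 8 := by
  classical
  have hle : S.val + Multiset.replicate ((eig E s).count 1) (1 : E) ≤ eig E s := by
    refine Multiset.le_iff_count.2 fun l => ?_
    rw [Multiset.count_add, Multiset.count_replicate]
    by_cases hl : l = 1
    · subst hl
      rw [if_pos rfl, Multiset.count_eq_zero.2 (by simpa using h1), zero_add]
    · rw [if_neg (Ne.symm hl), add_zero]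
      by_cases hlS : l ∈ S
      · rw [Multiset.count_eq_one_of_mem S.nodup hlS]
        exact Multiset.one_le_count_iff_mem.2 (hS l hlS)
      · rw [Multiset.count_eq_zero.2 (by simpa using hlS)]
        exact Nat.zero_le _
  have hc := Multiset.card_le_card hle
  rw [Multiset.card_add, Multiset.card_replicate] at hc
  have hdeg : Multiset.card (eig E s) ≤ 8 := by
    refine (Polynomial.card_roots' _).trans ?_
    rw [Polynomial.natDegree_map, Matrix.charpoly_natDegree_eq_dim]
    simp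
  have := finrank_fix_le_count (E := E) (s := s)
  simp only [Finset.card_val] at hc
  omega

end Count

section Orbit

variable {s : Matrix Pts Pts K}

local notation "Ω" => AlgebraicClosure K

theorem exists_orbit (hs : Good s) {m : ℕ} (hm : Odd m) (hsm : s ^ m = 1) (hfix : fixS s ≠ ⊥)
    {l : Ω} (hl : l ∈ eig Ω s) {d : ℕ} (hd : orderOf l = d)
    (hob : ∀ e ∈ orb d, 0 < e ∧ e < d) :
    ∃ S : Finset Ω, (∀ x ∈ S, x ∈ eig Ω s) ∧ (∀ x ∈ S, x ≠ 1 ∧ x ^ d = 1) ∧
      S.card = (orb d).card := by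
  classical
  obtain ⟨w, hw, hq⟩ := exists_qf_fix hs.iso hm hsm hfix
  have hf := charpoly_frob_fixed hs hw hq
  haveI : CharP Ω 2 := charP_of_injective_algebraMap (algebraMap K Ω).injective 2
  have hl1 : l ^ d = 1 := hd ▸ pow_orderOf_eq_one l
  have hpow : ∀ i, l ^ (2 ^ i) ∈ eig Ω s := by
    intro i
    induction i with
    | zero => simpa using hl
    | succ i ih => rw [pow_succ, pow_mul]; exact eig_sq hf ih
  have hmod : ∀ i, l ^ (2 ^ i % d) = l ^ (2 ^ i) := fun i => by rw [← hd, pow_mod_orderOf]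
  refine ⟨(orb d).image fun e => l ^ e, ?_, ?_, ?_⟩
  · intro x hx
    obtain ⟨e, he, rfl⟩ := Finset.mem_image.1 hx
    simp only [orb, Finset.mem_union, Finset.mem_image] at he
    rcases he with ⟨i, hi, rfl⟩ | ⟨i, hi, rfl⟩
    · rw [hmod]; exact hpow i
    · have hlt : 2 ^ i % d < d := by
        have := hob (2 ^ i % d) (Finset.mem_union_left _ (Finset.mem_image.2 ⟨i, hi, rfl⟩))
        exact this.2
      have h2 : l ^ (d - 2 ^ i % d) = (l ^ (2 ^ i % d))⁻¹ := by
        refine eq_inv_of_mul_eq_one_left ?_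
        rw [← pow_add, Nat.sub_add_cancel hlt.le, hl1]
      rw [h2, hmod]
      exact eig_inv hs.iso hm.pos.ne' hsm (hpow i)
  · intro x hx
    obtain ⟨e, he, rfl⟩ := Finset.mem_image.1 hx
    refine ⟨fun h => ?_, by rw [← pow_mul, mul_comm, pow_mul, hl1, one_pow]⟩
    exact pow_ne_one_of_lt_orderOf (hob e he).1.ne' (hd.symm ▸ (hob e he).2) h
  · refine Finset.card_image_of_injOn fun a ha b hb hab => ?_
    exact pow_injOn_Iio_orderOf (hd.symm ▸ (hob a ha).2) (hd.symm ▸ (hob b hb).2) hab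

theorem orbit_bound (hs : Good s) {m : ℕ} (hm : Odd m) (hsm : s ^ m = 1) (hfix : fixS s ≠ ⊥)
    {l : Ω} (hl : l ∈ eig Ω s) {d : ℕ} (hd : orderOf l = d)
    (hob : ∀ e ∈ orb d, 0 < e ∧ e < d) : (orb d).card + finrank K (fixS s) ≤ 8 := by
  obtain ⟨S, h1, h2, h3⟩ := exists_orbit hs hm hsm hfix hl hd hob
  rw [← h3]
  exact card_add_fix_le h1 fun h => (h2 1 h).1 rfl

theorem finrank_pos_of_ne_bot (hfix : fixS s ≠ ⊥) : 0 < finrank K (fixS s) :=
  Nat.pos_of_ne_zero fun h => hfix (Submodule.finrank_eq_zero.1 h)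

/-- An element of order `13` has no nonzero fixed vector. -/
theorem fix_thirteen (hs : Good s) (h : s ^ 13 = 1) (h1 : s ≠ 1) : fixS s = ⊥ := by
  by_contra hfix
  haveI := Fact.mk (by norm_num : Nat.Prime 13)
  obtain ⟨l, hl, hl1⟩ := exists_eig_pow_ne (E := Ω) (k := 1) (by decide) h (by simpa using h1)
  have := orbit_bound hs (by decide) h hfix hl
    (orderOf_eq_prime (eig_pow h hl) (by simpa using hl1)) (by decide)
  rw [show (orb 13).card = 12 by decide] at this
  omega

theorem fix_twentySeven (hs : Good s) (h : s ^ 27 = 1) (h1 : s ^ 9 ≠ 1) : fixS s = ⊥ := by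
  by_contra hfix
  haveI := Fact.mk (by norm_num : Nat.Prime 3)
  obtain ⟨l, hl, hl1⟩ := exists_eig_pow_ne (E := Ω) (k := 9) (by decide) h h1
  have := orbit_bound hs (by decide) h hfix hl
    (orderOf_eq_prime_pow (p := 3) (n := 2) (by norm_num; exact hl1) (by norm_num; exact eig_pow h hl))
    (by decide)
  rw [show (orb (3 ^ (2 + 1))).card = 18 by decide] at this
  omega

theorem fix_fortyNine (hs : Good s) (h : s ^ 49 = 1) (h1 : s ^ 7 ≠ 1) : fixS s = ⊥ := by
  by_contra hfix
  haveI := Fact.mk (by norm_num : Nat.Prime 7)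
  obtain ⟨l, hl, hl1⟩ := exists_eig_pow_ne (E := Ω) (k := 7) (by decide) h h1
  have := orbit_bound hs (by decide) h hfix hl
    (orderOf_eq_prime_pow (p := 7) (n := 1) (by norm_num; exact hl1) (by norm_num; exact eig_pow h hl))
    (by decide)
  have hc : 8 < (orb (7 ^ (1 + 1))).card := by decide
  omega

theorem fix_seven (hs : Good s) (h : s ^ 7 = 1) (h1 : s ≠ 1) : finrank K (fixS s) ≤ 2 := by
  by_cases hfix : fixS s = ⊥
  · rw [hfix]; simp
  haveI := Fact.mk (by norm_num : Nat.Prime 7)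
  obtain ⟨l, hl, hl1⟩ := exists_eig_pow_ne (E := Ω) (k := 1) (by decide) h (by simpa using h1)
  have := orbit_bound hs (by decide) h hfix hl
    (orderOf_eq_prime (eig_pow h hl) (by simpa using hl1)) (by decide)
  rw [show (orb 7).card = 6 by decide] at this
  omega

theorem exists_orbit_nine (hs : Good s) (h : s ^ 9 = 1) (h1 : s ^ 3 ≠ 1) (hfix : fixS s ≠ ⊥) :
    ∃ S : Finset Ω, (∀ x ∈ S, x ∈ eig Ω s) ∧ (∀ x ∈ S, x ≠ 1) ∧ S.card = 6 := by
  haveI := Fact.mk (by norm_num : Nat.Prime 3)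
  obtain ⟨l, hl, hl1⟩ := exists_eig_pow_ne (E := Ω) (k := 3) (by decide) h h1
  obtain ⟨S, e1, e2, e3⟩ := exists_orbit hs (by decide) h hfix hl
    (orderOf_eq_prime_pow (p := 3) (n := 1) (by norm_num; exact hl1) (by norm_num; exact eig_pow h hl))
    (by decide)
  exact ⟨S, e1, fun x hx => (e2 x hx).1, e3.trans (by decide)⟩

theorem fix_nine (hs : Good s) (h : s ^ 9 = 1) (h1 : s ^ 3 ≠ 1) : finrank K (fixS s) ≤ 2 := by
  by_cases hfix : fixS s = ⊥
  · rw [hfix]; simp
  obtain ⟨S, e1, e2, e3⟩ := exists_orbit_nine hs h h1 hfix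
  have := card_add_fix_le e1 fun hx => e2 1 hx rfl
  omega

theorem fix_twentyOne (hs : Good s) (h : s ^ 21 = 1) (h7 : s ^ 7 ≠ 1) (h3 : s ^ 3 ≠ 1) :
    fixS s = ⊥ := by
  classical
  by_contra hfix
  have hf0 := finrank_pos_of_ne_bot hfix
  haveI := Fact.mk (by norm_num : Nat.Prime 3)
  obtain ⟨a, ha, ha7⟩ := exists_eig_pow_ne (E := Ω) (k := 7) (by decide) h h7
  obtain ⟨b, hb, hb3⟩ := exists_eig_pow_ne (E := Ω) (k := 3) (by decide) h h3
  have key : ∀ x ∈ eig Ω s, orderOf x ≠ 21 := fun x hx hx21 => by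
    have := orbit_bound hs (by decide) h hfix hx hx21 (by decide)
    rw [show (orb 21).card = 12 by decide] at this
    omega
  have hdiv : ∀ x ∈ eig Ω s, orderOf x = 1 ∨ orderOf x = 3 ∨ orderOf x = 7 := fun x hx => by
    have h2 : orderOf x ∣ 21 := orderOf_dvd_of_pow_eq_one (eig_pow h hx)
    have h4 := key x hx
    have : orderOf x ∈ Nat.divisors 21 := Nat.mem_divisors.2 ⟨h2, by norm_num⟩
    rw [show Nat.divisors 21 = {1, 3, 7, 21} by decide +kernel] at this
    simp only [Finset.mem_insert, Finset.mem_singleton] at this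
    rcases this with e | e | e | e
    exacts [Or.inl e, Or.inr (Or.inl e), Or.inr (Or.inr e), absurd e h4]
  have hA : orderOf a = 3 := by
    rcases hdiv a ha with e | e | e
    · exact absurd (by rw [orderOf_eq_one_iff.1 e, one_pow]) ha7
    · exact e
    · exact absurd (e ▸ pow_orderOf_eq_one a) ha7
  have hB : orderOf b = 7 := by
    rcases hdiv b hb with e | e | e
    · exact absurd (by rw [orderOf_eq_one_iff.1 e, one_pow]) hb3
    · exact absurd (e ▸ pow_orderOf_eq_one b) hb3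
    · exact e
  obtain ⟨S, s1, s2, s3⟩ := exists_orbit hs (by decide) h hfix ha hA (by decide)
  obtain ⟨T, t1, t2, t3⟩ := exists_orbit hs (by decide) h hfix hb hB (by decide)
  have hdisj : Disjoint S T := Finset.disjoint_left.2 fun x hxS hxT => (s2 x hxS).1 (by
    have e1 := (s2 x hxS).2
    have e2 := (t2 x hxT).2
    have : x ^ 7 = (x ^ 3) ^ 2 * x := by rw [← pow_mul, ← pow_succ]
    rwa [e2, e1, one_pow, one_mul, eq_comm] at this)
  have := card_add_fix_le (s := s) (S := S ∪ T)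
    (fun x hx => (Finset.mem_union.1 hx).elim (s1 x) (t1 x))
    (fun hx => (Finset.mem_union.1 hx).elim (fun e => (s2 1 e).1 rfl) fun e => (t2 1 e).1 rfl)
  rw [Finset.card_union_of_disjoint hdisj, s3, t3, show (orb 3).card = 2 by decide,
    show (orb 7).card = 6 by decide] at this
  omega

end Orbit

/-! ### Unipotent elements commuting with an element of odd order -/

section Unip

variable {s N : Matrix Pts Pts K}

theorem mulVecLin_comm (h : Commute s N) (v : Pts → K) : s *ᵥ (N *ᵥ v) = N *ᵥ (s *ᵥ v) := by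
  rw [Matrix.mulVec_mulVec, Matrix.mulVec_mulVec, h.eq]

theorem map_mulVecLin_ne (X : Submodule K (Pts → K)) {k : ℕ} (hN : N ^ k = 0) (hX : X ≠ ⊥) :
    X.map N.mulVecLin ≠ X := by
  intro h
  have key : ∀ j, X.map (N ^ j).mulVecLin = X := by
    intro j
    induction j with
    | zero => simp
    | succ j ih => rw [pow_succ, Matrix.mulVecLin_mul, Submodule.map_comp, h, ih]
  refine hX (le_antisymm ?_ bot_le)
  rw [← key k, hN]
  rintro _ ⟨v, -, rfl⟩
  simp

theorem sq_kills {k : ℕ} (hN : N ^ k = 0) (X : Submodule K (Pts → K))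
    (hinv : ∀ v ∈ X, N *ᵥ v ∈ X) (P : Submodule K (Pts → K) → Prop) (hP : P X)
    (hstep : ∀ Y, P Y → P (Y.map N.mulVecLin))
    (c b : ℕ) (hdim : finrank K X ≤ b)
    (hc : ∀ Y : Submodule K (Pts → K), P Y → Y ≤ X → c ∣ finrank K Y) (hcb : b < 3 * c) :
    ∀ v ∈ X, (N ^ 2) *ᵥ v = 0 := by
  set X1 := X.map N.mulVecLin with hX1
  set X2 := X1.map N.mulVecLin with hX2
  have l1 : X1 ≤ X := by
    rintro _ ⟨v, hv, rfl⟩
    exact hinv v hv
  have l2 : X2 ≤ X1 := Submodule.map_mono l1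
  suffices h : X2 = ⊥ by
    intro v hv
    have : (N ^ 2) *ᵥ v ∈ X2 := ⟨N *ᵥ v, ⟨v, hv, rfl⟩, by simp [pow_two, Matrix.mulVec_mulVec]⟩
    rwa [h, Submodule.mem_bot] at this
  by_contra hne
  have n1 : X1 ≠ ⊥ := fun e => hne (by rw [hX2, e, Submodule.map_bot])
  have n0 : X ≠ ⊥ := fun e => n1 (by rw [hX1, e, Submodule.map_bot])
  have t1 : finrank K X1 < finrank K X :=
    Submodule.finrank_lt_finrank_of_lt (lt_of_le_of_ne l1 (map_mulVecLin_ne X hN n0))
  have t2 : finrank K X2 < finrank K X1 :=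
    Submodule.finrank_lt_finrank_of_lt (lt_of_le_of_ne l2 (map_mulVecLin_ne X1 hN n1))
  have t3 : 0 < finrank K X2 := Nat.pos_of_ne_zero fun e => hne (Submodule.finrank_eq_zero.1 e)
  obtain ⟨a, ha⟩ := hc X hP le_rfl
  obtain ⟨a1, ha1⟩ := hc X1 (hstep _ hP) l1
  obtain ⟨a2, ha2⟩ := hc X2 (hstep _ (hstep _ hP)) (l2.trans l1)
  rw [ha1, ha2] at t2
  rw [ha, ha1] at t1
  rw [ha2] at t3
  have q1 : a1 < a := Nat.lt_of_mul_lt_mul_left t1
  have q2 : a2 < a1 := Nat.lt_of_mul_lt_mul_left t2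
  have q3 : 0 < a2 := Nat.pos_of_mul_pos_left t3
  have : 3 * c ≤ a * c := Nat.mul_le_mul_right c (by omega)
  rw [mul_comm a c, ← ha] at this
  omega

theorem sq_kills_two {k : ℕ} (hN : N ^ k = 0) (hc : Commute s N) (hd : finrank K (fixS s) ≤ 2)
    {v : Pts → K} (hv : s *ᵥ v = v) : (N ^ 2) *ᵥ v = 0 :=
  sq_kills hN (fixS s)
    (fun v hv => mem_fixS.2 (by rw [mulVecLin_comm hc, mem_fixS.1 hv]))
    (fun _ => True) trivial (fun _ _ => trivial) 1 2 hd (fun _ _ _ => one_dvd _) (by norm_num) v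
    (mem_fixS.2 hv)

theorem even_of_fpf [Fintype K] (hK : Fintype.card K = 8) (h3 : s ^ 3 = 1) (Y : Submodule K (Pts → K))
    (hinv : ∀ v ∈ Y, s *ᵥ v ∈ Y) (hfree : ∀ v ∈ Y, s *ᵥ v = v → v = 0) : 2 ∣ finrank K Y := by
  classical
  haveI := Fact.mk (by norm_num : Nat.Prime 3)
  haveI : Fintype Y := Fintype.ofFinite Y
  let f : Function.End Y := fun v => ⟨s *ᵥ (v : Pts → K), hinv v v.2⟩
  have hf : f ^ 3 ^ 1 = 1 := by
    funext v
    apply Subtype.ext
    show s *ᵥ (s *ᵥ (s *ᵥ (v : Pts → K))) = v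
    rw [Matrix.mulVec_mulVec, Matrix.mulVec_mulVec, show s * s * s = s ^ 3 by rw [pow_three, mul_assoc], h3,
      Matrix.one_mulVec]
  have h := Equiv.Perm.card_fixedPoints_modEq (p := 3) (n := 1) hf
  have h1 : Fintype.card (Function.fixedPoints f) = 1 := by
    rw [Fintype.card_eq_one_iff]
    refine ⟨⟨0, Subtype.ext (by simp [f])⟩, fun v => Subtype.ext (Subtype.ext ?_)⟩
    exact hfree _ v.1.2 (congrArg Subtype.val v.2)
  rw [h1, Module.card_eq_pow_finrank (K := K) (V := Y), hK, Nat.ModEq, Nat.pow_mod] at h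
  rcases Nat.even_or_odd (finrank K Y) with he | ⟨e, he⟩
  · exact he.two_dvd
  · rw [he, pow_succ, pow_mul, Nat.mul_mod, Nat.pow_mod] at h
    norm_num at h

theorem sq_kills_mov [Fintype K] (hK : Fintype.card K = 8) (h3 : s ^ 3 = 1) {k : ℕ} (hN : N ^ k = 0)
    (hc : Commute s N) (hd : finrank K (movS s) ≤ 5) : ∀ v ∈ movS s, (N ^ 2) *ᵥ v = 0 := by
  refine sq_kills hN (movS s) ?_ (fun Y => ∀ v ∈ Y, s *ᵥ v ∈ Y) ?_ ?_ 2 5 hd ?_ (by norm_num)
  · intro v hv
    obtain ⟨z, rfl⟩ := mem_movS.1 hv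
    exact mem_movS.2 ⟨N *ᵥ z, by rw [mulVecLin_comm hc, Matrix.mulVec_add]⟩
  · intro v hv
    obtain ⟨z, rfl⟩ := mem_movS.1 hv
    exact mem_movS.2 ⟨s *ᵥ z, by rw [Matrix.mulVec_add]⟩
  · rintro Y hY _ ⟨v, hv, rfl⟩
    exact ⟨s *ᵥ v, hY v hv, (mulVecLin_comm hc v).symm⟩
  · intro Y hY hYX
    refine even_of_fpf hK h3 Y hY fun v hv hfv => ?_
    exact Submodule.disjoint_def.1 (disjoint_fix_mov (m := 3) (by decide) h3) v (mem_fixS.2 hfv)
      (hYX hv)

end Unip

/-- Over an algebraically closed field: six eigenvalues and the fixed space exhaust the module, so a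
commuting square-zero matrix kills the moved space. -/
theorem kills_mov {E : Type*} [Field E] [CharP E 2] {s N : Matrix Pts Pts E} (hi : Iso s)
    {m : ℕ} (hm : Odd m) (hsm : s ^ m = 1) (hfix : fixS s ≠ ⊥) (hc : Commute s N)
    (hN2 : N * N = 0) (S : Finset E) (hS : ∀ l ∈ S, l ≠ 1 ∧ ∃ v : Pts → E, v ≠ 0 ∧ s *ᵥ v = l • v)
    (hcard : S.card = 6) : N * (s + 1) = 0 := by
  classical
  choose vec hv0 hvs using fun l : S => (hS l l.2).2
  have hli : LinearIndependent E vec :=
    Module.End.eigenvectors_linearIndependent' s.mulVecLin (fun l : S => (l : E))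
      Subtype.coe_injective vec
      (fun l => ⟨by rw [Module.End.mem_eigenspace_iff]; exact hvs l, hv0 l⟩)
  set X := Submodule.span E (Set.range vec) with hX
  have hX6 : finrank E X = 6 := by rw [finrank_span_eq_card hli]; simp [hcard]
  have hXM : X ≤ movS s := by
    rw [hX, Submodule.span_le]
    rintro _ ⟨l, rfl⟩
    have hl1 : (l : E) + 1 ≠ 0 := fun e => (hS l l.2).1 (CharTwo.add_eq_zero.1 e)
    refine mem_movS.2 ⟨((l : E) + 1)⁻¹ • vec l, ?_⟩
    rw [Matrix.mulVec_smul, hvs, smul_smul, ← add_smul, show ((l : E) + 1)⁻¹ * l + ((l : E) + 1)⁻¹ = 1 by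
      field_simp, one_smul]
  have hfr := finrank_fix_add_mov s
  have hf2 : 2 ≤ finrank E (fixS s) := by
    have h0 : finrank E (fixS s) ≠ 0 := fun e => hfix (Submodule.finrank_eq_zero.1 e)
    have := finrank_fix_ne_one hi hm hsm
    omega
  have hXeq : X = movS s := by
    refine Submodule.eq_of_le_of_finrank_le hXM ?_
    omega
  -- every eigenspace for a value in `S` is a line
  have hline : ∀ l : S, ∀ z : Pts → E, z ∈ movS s → s *ᵥ z = (l : E) • z → ∃ c : E, z = c • vec l := by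
    intro l z hz hsz
    rw [← hXeq, hX] at hz
    obtain ⟨c, hc'⟩ := (Submodule.mem_span_range_iff_exists_fun E).1 hz
    refine ⟨c l, ?_⟩
    rw [← hc', Finset.sum_eq_single l (fun j _ hj => ?_) (by simp)]
    have h1 := congrArg (fun w => s *ᵥ w) hc'
    simp only [Matrix.mulVec_sum, Matrix.mulVec_smul, hvs, smul_smul, hsz] at h1
    rw [← hc', Finset.smul_sum] at h1
    have h2 : ∑ i : S, (c i * (i : E) - (l : E) * c i) • vec i = 0 := by
      simp only [sub_smul, Finset.sum_sub_distrib, h1, smul_smul, sub_self]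
    have h3 := Fintype.linearIndependent_iff.1 hli _ h2 j
    have h4 : c j * ((j : E) - (l : E)) = 0 := by rw [mul_sub, mul_comm (c j) (l : E)]; exact h3
    rw [(mul_eq_zero.1 h4).resolve_right (sub_ne_zero.2 fun e => hj (Subtype.ext e)), zero_smul]
  have hkill : ∀ z ∈ movS s, N *ᵥ z = 0 := by
    rw [← hXeq, hX]
    intro z hz
    refine Submodule.span_induction (p := fun z _ => N *ᵥ z = 0) ?_ (Matrix.mulVec_zero N)
      (fun x y _ _ hx hy => by rw [Matrix.mulVec_add, hx, hy, add_zero])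
      (fun c x _ hx => by rw [Matrix.mulVec_smul, hx, smul_zero]) hz
    rintro _ ⟨l, rfl⟩
    have hmem : N *ᵥ vec l ∈ movS s := by
      obtain ⟨z', hz'⟩ := mem_movS.1 (hXM (Submodule.subset_span ⟨l, rfl⟩))
      exact mem_movS.2 ⟨N *ᵥ z', by rw [mulVecLin_comm hc, ← Matrix.mulVec_add, hz']⟩
    obtain ⟨c, hcv⟩ := hline l _ hmem (by rw [mulVecLin_comm hc, hvs, Matrix.mulVec_smul])
    have h1 : N *ᵥ (N *ᵥ vec l) = 0 := by rw [Matrix.mulVec_mulVec, hN2, Matrix.zero_mulVec]
    rw [hcv, Matrix.mulVec_smul, hcv, smul_smul, smul_eq_zero, mul_self_eq_zero] at h1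
    rw [hcv, h1.resolve_right (hv0 l), zero_smul]
  refine Matrix.ext_iff_mulVec.2 fun v => ?_
  rw [← Matrix.mulVec_mulVec, Matrix.zero_mulVec]
  exact hkill _ (mem_movS.2 ⟨v, (add_one_mulVec s v).symm⟩)

end CfsgLib.TrialityIso
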