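import Mathlib.Algebra.Field.Basic
import Mathlib.Algebra.CharP.Two
import Mathlib.Data.Fintype.Card
import Mathlib.Data.Fintype.Pi
import Mathlib.Tactic.TypeStar

/-!
A computable field with eight elements.
-/

set_option autoImplicit false

namespace CfsgLib.TrialityIso

/-- The elements, coded by their coordinates in the powers of a root of `X ^ 3 + X + 1`. -/
def F8 : Type := Fin 8

namespace F8

instance : DecidableEq F8 := inferInstanceAs (DecidableEq (Fin 8))
instance : Fintype F8 := inferInstanceAs (Fintype (Fin 8))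

/-- An element from its code. -/
def mk (n : Fin 8) : F8 := n

/-- The code. -/
def code (a : F8) : ℕ := Fin.val a

/-- The multiplication table. -/
def table : List (Fin 8) := [0, 0, 0, 0, 0, 0, 0, 0, 0, 1, 2, 3, 4, 5, 6, 7, 0, 2, 4, 6, 3, 1, 7, 5, 0, 3, 6, 5, 7, 4, 1, 2, 0, 4, 3, 7, 6, 2, 5, 1, 0, 5, 1, 4, 2, 7, 3, 6, 0, 6, 7, 1, 5, 3, 2, 4, 0, 7, 5, 2, 1, 6, 4, 3]

instance : Zero F8 := ⟨mk 0⟩
instance : One F8 := ⟨mk 1⟩
instance : Add F8 := ⟨fun a b => mk (Fin.ofNat 8 (a.code ^^^ b.code))⟩
instance : Neg F8 := ⟨fun a => a⟩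
instance : Mul F8 := ⟨fun a b => mk (table.getD (8 * a.code + b.code) 0)⟩
instance : Inv F8 := ⟨fun a => a * a * (a * a) * (a * a)⟩

instance instField : Field F8 where
  add_assoc := by decide +kernel
  zero_add := by decide +kernel
  add_zero := by decide +kernel
  add_comm := by decide +kernel
  neg_add_cancel := by decide +kernel
  mul_assoc := by decide +kernel
  one_mul := by decide +kernel
  mul_one := by decide +kernel
  mul_comm := by decide +kernel
  zero_mul := by decide +kernel
  mul_zero := by decide +kernel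
  left_distrib := by decide +kernel
  right_distrib := by decide +kernel
  nsmul := nsmulRec
  zsmul := zsmulRec
  exists_pair_ne := ⟨0, 1, by decide +kernel⟩
  mul_inv_cancel := by decide +kernel
  inv_zero := by decide +kernel
  nnqsmul := _
  nnqsmul_def := fun _ _ => rfl
  qsmul := _
  qsmul_def := fun _ _ => rfl

instance : CharP F8 2 := CharTwo.of_one_ne_zero_of_two_eq_zero (by decide +kernel) (by
  rw [← one_add_one_eq_two]; decide +kernel)

theorem card : Fintype.card F8 = 8 := Fintype.card_fin 8

end F8

end CfsgLib.TrialityIso
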