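import Cfsg.Agent.Lib.TrialityIso.Bounds
import Mathlib.Data.Nat.ModEq
import Mathlib.NumberTheory.Divisors

/-!
The norm of a triality-compatible matrix on the natural module vanishes unless its order is small.
-/

set_option autoImplicit false
set_option linter.unusedSectionVars false
set_option linter.style.haveILetI false

namespace CfsgLib.TrialityIso

open Matrix Module

variable {K : Type*} [Field K] [CharP K 2]

theorem matrix_add_self (A : Matrix Pts Pts K) : A + A = 0 := by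
  ext i j
  exact CharTwo.add_self_eq_zero (A i j)

theorem add_one_sq (A : Matrix Pts Pts K) : (A + 1) ^ 2 = A ^ 2 + 1 := by
  have h : (A + 1) ^ 2 = A ^ 2 + 1 + (A + A) := by noncomm_ring
  rw [h, matrix_add_self, add_zero]

theorem add_one_pow_two_pow (A : Matrix Pts Pts K) (a : ℕ) : (A + 1) ^ 2 ^ a = A ^ 2 ^ a + 1 := by
  induction a with
  | zero => simp
  | succ a ih => rw [pow_succ, pow_mul, ih, add_one_sq, ← pow_mul]

theorem sum_split_two (g : Matrix Pts Pts K) (k : ℕ) :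
    ∑ i ∈ Finset.range (2 * k), g ^ i = (g + 1) * ∑ i ∈ Finset.range k, (g ^ 2) ^ i := by
  induction k with
  | zero => simp
  | succ k ih =>
    rw [show 2 * (k + 1) = 2 * k + 1 + 1 by ring, Finset.sum_range_succ, Finset.sum_range_succ,
      Finset.sum_range_succ, ih, mul_add, ← pow_mul, pow_succ' g (2 * k)]
    noncomm_ring

theorem sum_split : ∀ (a : ℕ) (g : Matrix Pts Pts K) (m : ℕ),
    ∑ i ∈ Finset.range (2 ^ a * m), g ^ i =
      (g + 1) ^ (2 ^ a - 1) * ∑ j ∈ Finset.range m, (g ^ 2 ^ a) ^ j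
  | 0, g, m => by simp
  | a + 1, g, m => by
    rw [show 2 ^ (a + 1) * m = 2 * (2 ^ a * m) by ring, sum_split_two, sum_split a (g ^ 2) m,
      ← pow_mul, show 2 * 2 ^ a = 2 ^ (a + 1) by ring, ← mul_assoc]
    congr 1
    rw [← add_one_sq, ← pow_mul, ← pow_succ']
    congr 1
    have := Nat.one_le_two_pow (n := a)
    rw [pow_succ]
    omega

theorem pow_add_one_of_fix {g u s : Matrix Pts Pts K} (hgs : Commute s g)
    (hu : ∀ v, s *ᵥ v = v → u *ᵥ v = g *ᵥ v) :
    ∀ (k : ℕ) (v : Pts → K), s *ᵥ v = v →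
      ((g + 1) ^ k) *ᵥ v = ((u + 1) ^ k) *ᵥ v
  | 0, v, _ => by simp
  | k + 1, v, hv => by
    rw [pow_succ, pow_succ, ← Matrix.mulVec_mulVec, ← Matrix.mulVec_mulVec]
    have h1 : (u + 1) *ᵥ v = (g + 1) *ᵥ v := by rw [add_one_mulVec, add_one_mulVec, hu v hv]
    have hfix : s *ᵥ ((g + 1) *ᵥ v) = (g + 1) *ᵥ v := by
      rw [mulVecLin_comm (hgs.add_right (Commute.one_right s)), hv]
    rw [pow_add_one_of_fix hgs hu k _ hfix, h1]

theorem map_mul_one_add {L : Type*} [Field L] (f : K →+* L) (u : Matrix Pts Pts K) :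
    (u + 1).map f = u.map f + 1 := by
  rw [← RingHom.mapMatrix_apply, map_add, map_one]; rfl

theorem finrank_fix_map [Fintype K] (k : ℕ) (s : Matrix Pts Pts K) :
    finrank K (fixS (s.map (fro k))) = finrank K (fixS s) := by
  haveI : Fintype (fixS s) := Fintype.ofFinite _
  haveI : Fintype (fixS (s.map (fro k))) := Fintype.ofFinite _
  have hb : Function.Bijective (fro k : K → K) := Finite.injective_iff_bijective.1 (fro_injective k)
  have e : fixS s ≃ fixS (s.map (fro k)) := by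
    refine Equiv.ofBijective (fun v => ⟨fro k ∘ (v : Pts → K), mem_fixS.2 (by
      rw [map_mulVec', mem_fixS.1 v.2])⟩) ⟨?_, ?_⟩
    · intro v w h
      apply Subtype.ext
      funext i
      exact hb.1 (congrFun (congrArg Subtype.val h) i)
    · rintro ⟨w, hw⟩
      choose v hv using fun i => hb.2 (w i)
      have hwv : fro k ∘ v = w := funext hv
      refine ⟨⟨v, mem_fixS.2 ?_⟩, Subtype.ext hwv⟩
      have h := mem_fixS.1 hw
      rw [← hwv, map_mulVec'] at h
      funext i
      exact hb.1 (congrFun h i)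
  have h := Fintype.card_congr e
  rw [Module.card_eq_pow_finrank (K := K) (V := fixS s),
    Module.card_eq_pow_finrank (K := K) (V := fixS (s.map (fro k)))] at h
  exact Nat.pow_right_injective Fintype.one_lt_card h.symm

theorem iso_map [Fintype K] (k : ℕ) {s : Matrix Pts Pts K} (hs : Good s) : Iso (s.map (fro k)) := by
  refine iso_of_qf fun v => ?_
  choose w hw using fun i => (Finite.injective_iff_bijective.1 (fro_injective k)).2 (v i)
  rw [show v = fro k ∘ w from (funext hw).symm, map_mulVec', qf_map, qf_map, hs.qf_eq]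

theorem pow_map (k n : ℕ) (s : Matrix Pts Pts K) : (s.map (fro k)) ^ n = (s ^ n).map (fro k) := by
  rw [← RingHom.mapMatrix_apply, ← RingHom.mapMatrix_apply, map_pow]

theorem commute_map (k : ℕ) {s u : Matrix Pts Pts K} (h : Commute s u) :
    Commute (s.map (fro k)) (u.map (fro k)) :=
  h.map ((fro k).mapMatrix)

/-- The product of a fixed vector with a moved one is moved. -/
theorem tri_fix_mov {s : Matrix Pts Pts K} (hs : Good s) {w y : Pts → K} (hw : s *ᵥ w = w)
    (hy : y ∈ movS (s.map (fro 1))) : tri w y ∈ movS (s.map (fro 2)) := by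
  obtain ⟨z, rfl⟩ := mem_movS.1 hy
  refine mem_movS.2 ⟨tri w z, ?_⟩
  rw [tri_add_right, ← hs.tri_eq, hw]

/-- The engine: a good matrix trivial on the two moved spaces is trivial on the fixed space. -/
theorem fix_of_mov [Fintype K] {s u : Matrix Pts Pts K} (hs : Good s) (hu : Good u) {m : ℕ}
    (hm : Odd m) (hsm : s ^ m = 1) (hne : s ≠ 1)
    (h1 : ∀ y ∈ movS (s.map (fro 1)), (u.map (fro 1)) *ᵥ y = y)
    (h2 : ∀ y ∈ movS (s.map (fro 2)), (u.map (fro 2)) *ᵥ y = y)
    {w : Pts → K} (hw : s *ᵥ w = w) : u *ᵥ w = w := by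
  have hmov : movS (s.map (fro 1)) ≠ ⊥ := by
    intro e
    apply hne
    have h0 : (s.map (fro 1) + 1).mulVecLin = 0 := LinearMap.range_eq_bot.1 e
    refine Matrix.ext fun i j => fro_injective 1 ?_
    have := congrFun (LinearMap.congr_fun h0 (Pi.single j 1)) i
    rw [Matrix.mulVecLin_apply, Matrix.mulVec_single_one] at this
    have h4 : (s.map (fro 1)) i j + (1 : Matrix Pts Pts K) i j = 0 := this
    rw [Matrix.map_apply] at h4
    rw [CharTwo.add_eq_zero.1 h4]
    by_cases hij : i = j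
    · subst hij; simp
    · simp [Matrix.one_apply_ne hij]
  obtain ⟨y, hy, hq⟩ := exists_qf_mov (iso_map 1 hs) hm
    (by rw [pow_map, hsm, Matrix.map_one _ (map_zero _) (map_one _)]) hmov
  have h3 := hu.tri_eq w y
  rw [h1 y hy, h2 _ (tri_fix_mov hs hw hy)] at h3
  have h4 : tri (u *ᵥ w + w) y = 0 := by rw [tri_add_left, h3]; exact add_eq_zero'.2 rfl
  exact add_eq_zero'.1 (tri_right_inj hq h4)

theorem three_case [Fintype K] (hK : Fintype.card K = 8) {s u : Matrix Pts Pts K} (hs : Good s)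
    (hu : Good u) (h3 : s ^ 3 = 1) (hne : s ≠ 1) (hc : Commute s u) {k : ℕ} (hnil : (u + 1) ^ k = 0)
    {w : Pts → K} (hw : s *ᵥ w = w) : ((u + 1) ^ 2) *ᵥ w = 0 := by
  by_cases hd : finrank K (fixS s) ≤ 2
  · exact sq_kills_two hnil (hc.add_right (Commute.one_right s)) hd hw
  have key : ∀ j, ∀ y ∈ movS (s.map (fro j)), ((u ^ 2).map (fro j)) *ᵥ y = y := by
    intro j y hy
    have hn : (u.map (fro j) + 1) ^ k = 0 := by
      rw [← map_mul_one_add, pow_map, hnil, Matrix.map_zero _ (map_zero _)]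
    have hd' : finrank K (movS (s.map (fro j))) ≤ 5 := by
      have := finrank_fix_add_mov (s.map (fro j))
      rw [finrank_fix_map] at this
      omega
    have h := sq_kills_mov hK (by rw [pow_map, h3, Matrix.map_one _ (map_zero _) (map_one _)]) hn
      ((commute_map j hc).add_right (Commute.one_right _)) hd' y hy
    rw [add_one_sq, add_one_mulVec, add_eq_zero', pow_map] at h
    exact h
  have h := fix_of_mov hs (hu.pow 2) (by decide : Odd 3) h3 hne (key 1) (key 2) hw
  rw [add_one_sq, add_one_mulVec, h]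
  exact add_eq_zero'.2 rfl

theorem nine_case [Fintype K] {s u : Matrix Pts Pts K} (hs : Good s) (hu : Good u) (h9 : s ^ 9 = 1)
    (h3 : s ^ 3 ≠ 1) (hc : Commute s u) (hinv : (u + 1) * (u + 1) = 0) (hfix : fixS s ≠ ⊥)
    {w : Pts → K} (hw : s *ᵥ w = w) : u *ᵥ w = w := by
  have hzero : (u + 1) * (s + 1) = 0 := by
    obtain ⟨S, hS, hS1, hcard⟩ := exists_orbit_nine hs h9 h3 hfix
    haveI : CharP (AlgebraicClosure K) 2 :=
      charP_of_injective_algebraMap (algebraMap K (AlgebraicClosure K)).injective 2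
    set f := algebraMap K (AlgebraicClosure K) with hf
    have hJ : Iso (s.map f) := by
      intro x y
      have hb : ∀ a b : Pts, pol (s.map f *ᵥ Pi.single a 1) (s.map f *ᵥ Pi.single b 1) =
          pol (Pi.single a (1 : AlgebraicClosure K)) (Pi.single b 1) := by
        intro a b
        have h := congrArg f (hs.iso (Pi.single a 1) (Pi.single b 1))
        rw [Matrix.mulVec_single_one, Matrix.mulVec_single_one] at h ⊢
        simp only [pol, map_add, map_mul] at h ⊢
        simp only [Matrix.col_apply, Matrix.map_apply] at h ⊢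
        simpa [Pi.single_apply, apply_ite f] using h
      let B : (Pts → AlgebraicClosure K) →ₗ[AlgebraicClosure K]
          (Pts → AlgebraicClosure K) →ₗ[AlgebraicClosure K] AlgebraicClosure K :=
        LinearMap.mk₂ _ pol pol_add_left pol_smul_left pol_add_right
          (fun c x y => by simp [pol]; ring)
      have : B.compl₁₂ (s.map f).mulVecLin (s.map f).mulVecLin = B := by
        refine (Pi.basisFun _ Pts).ext fun a => (Pi.basisFun _ Pts).ext fun b => ?_
        simp only [LinearMap.compl₁₂_apply, Pi.basisFun_apply, Matrix.mulVecLin_apply]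
        exact hb a b
      exact LinearMap.congr_fun (LinearMap.congr_fun this x) y
    have hpow : (s.map f) ^ 9 = 1 := by
      rw [← RingHom.mapMatrix_apply, ← map_pow, h9, map_one]
    have hfix' : fixS (s.map f) ≠ ⊥ := by
      obtain ⟨v, hv, hv0⟩ := (Submodule.ne_bot_iff _).1 hfix
      refine (Submodule.ne_bot_iff _).2 ⟨f ∘ v, mem_fixS.2 (by rw [map_mulVec', mem_fixS.1 hv]), ?_⟩
      intro e
      exact hv0 (funext fun i => f.injective (by simpa using congrFun e i))
    have h := kills_mov (N := u.map f + 1) hJ (by decide : Odd 9) hpow hfix'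
      ((hc.map f.mapMatrix).add_right (Commute.one_right _))
      (by rw [← map_mul_one_add, ← Matrix.map_mul, hinv, Matrix.map_zero _ (map_zero _)]) S
      (fun l hl => ⟨hS1 l hl, by
        obtain ⟨v, hv, hgv⟩ := Matrix.exists_mulVec_eq_zero_iff.2 (mem_eig_det.1 (hS l hl))
        refine ⟨v, hv, ?_⟩
        rw [Matrix.sub_mulVec, sub_eq_zero] at hgv
        rw [← hgv, Matrix.scalar_apply, ← Matrix.smul_one_eq_diagonal, Matrix.smul_mulVec,
          Matrix.one_mulVec]⟩) hcard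
    rw [← map_mul_one_add, ← map_mul_one_add, ← Matrix.map_mul] at h
    exact Matrix.map_injective f.injective (h.trans (Matrix.map_zero _ (map_zero _)).symm)
  have key : ∀ j, ∀ y ∈ movS (s.map (fro j)), (u.map (fro j)) *ᵥ y = y := by
    intro j y hy
    obtain ⟨z, rfl⟩ := mem_movS.1 hy
    refine add_eq_zero'.1 ?_
    rw [← add_one_mulVec, ← add_one_mulVec, ← map_mul_one_add, ← map_mul_one_add, Matrix.mulVec_mulVec,
      ← Matrix.map_mul, hzero, Matrix.map_zero _ (map_zero _), Matrix.zero_mulVec]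
  exact fix_of_mov hs hu (by decide : Odd 9) h9 (fun e => h3 (by rw [e, one_pow])) (key 1) (key 2) hw

theorem fix_eq_bot_of_pow {s : Matrix Pts Pts K} {e : ℕ} (h : fixS (s ^ e) = ⊥) : fixS s = ⊥ :=
  le_antisymm (h ▸ fun v hv => mem_fixS.2 (pow_mulVec_of_fix (mem_fixS.1 hv) e)) bot_le

theorem small_order {s : Matrix Pts Pts K} (hs : Good s) {m : ℕ} (hm : m ∣ 3 ^ 4 * 7 ^ 2 * 13)
    (hsm : s ^ m = 1) (hmin : ∀ j, 0 < j → j < m → s ^ j ≠ 1) (hfix : fixS s ≠ ⊥) :
    m = 1 ∨ m = 3 ∨ m = 7 ∨ m = 9 := by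
  have hd : ∀ k ∈ Nat.divisors (3 ^ 4 * 7 ^ 2 * 13),
      k = 1 ∨ k = 3 ∨ k = 7 ∨ k = 9 ∨ 13 ∣ k ∨ 21 ∣ k ∨ 27 ∣ k ∨ 49 ∣ k := by decide +kernel
  have hm' : m ∈ Nat.divisors (3 ^ 4 * 7 ^ 2 * 13) := Nat.mem_divisors.2 ⟨hm, by norm_num⟩
  have hne : ∀ d e, m = d * e → 0 < e → ∀ j, 0 < j → j < d → (s ^ e) ^ j ≠ 1 := by
    intro d e hde he j hj hjd
    rw [← pow_mul]
    exact hmin _ (Nat.mul_pos he hj) (by rw [hde, mul_comm d e]; exact Nat.mul_lt_mul_of_pos_left hjd he)
  have hpow : ∀ d e, m = d * e → (s ^ e) ^ d = 1 := fun d e hde => by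
    rw [← pow_mul, mul_comm, ← hde, hsm]
  have hm0 : 0 < m := Nat.pos_of_dvd_of_pos hm (by norm_num)
  rcases hd m hm' with e | e | e | e | e | e | e | e
  · exact Or.inl e
  · exact Or.inr (Or.inl e)
  · exact Or.inr (Or.inr (Or.inl e))
  · exact Or.inr (Or.inr (Or.inr e))
  all_goals
    exfalso
    obtain ⟨c, hc⟩ := e
    have hc0 : 0 < c := Nat.pos_of_ne_zero fun h => by simp [h] at hc; omega
    apply hfix
    apply fix_eq_bot_of_pow (e := c)
  · exact fix_thirteen (hs.pow c) (hpow _ _ hc) (by simpa using hne _ _ hc hc0 1 one_pos (by norm_num))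
  · exact fix_twentyOne (hs.pow c) (hpow _ _ hc) (hne _ _ hc hc0 7 (by norm_num) (by norm_num))
      (hne _ _ hc hc0 3 (by norm_num) (by norm_num))
  · exact fix_twentySeven (hs.pow c) (hpow _ _ hc) (hne _ _ hc hc0 9 (by norm_num) (by norm_num))
  · exact fix_fortyNine (hs.pow c) (hpow _ _ hc) (hne _ _ hc hc0 7 (by norm_num) (by norm_num))

/-- The norm of a good matrix vanishes unless its order is one of eight numbers. -/
theorem norm_eq_zero_or_small [Fintype K] (hK : Fintype.card K = 8) {g : Matrix Pts Pts K}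
    (hg : Good g) {n : ℕ} (hn : n ∣ 2 ^ 12 * 3 ^ 4 * 7 ^ 2 * 13) (hgn : g ^ n = 1)
    (hmin : ∀ j, 0 < j → j < n → g ^ j ≠ 1)
    (huni : ∀ e a : ℕ, (g ^ e) ^ 2 ^ a = 1 → (g ^ e + 1) ^ 7 = 0) :
    (∑ i ∈ Finset.range n, g ^ i) = 0 ∨ n ∈ ({1, 2, 3, 4, 6, 7, 9, 14} : Finset ℕ) := by
  have hn0 : 0 < n := Nat.pos_of_dvd_of_pos hn (by norm_num)
  obtain ⟨a, m, hmodd, hnm⟩ := Nat.exists_eq_two_pow_mul_odd hn0.ne'
  subst hnm
  by_contra hcon
  push Not at hcon
  obtain ⟨hsum, hlist⟩ := hcon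
  set s := g ^ 2 ^ a with hsdef
  have hm0 : 0 < m := hmodd.pos
  have hsm : s ^ m = 1 := by rw [hsdef, ← pow_mul, hgn]
  have hsmin : ∀ j, 0 < j → j < m → s ^ j ≠ 1 := fun j hj hjm => by
    rw [hsdef, ← pow_mul]
    exact hmin _ (Nat.mul_pos (Nat.two_pow_pos a) hj) (Nat.mul_lt_mul_of_pos_left hjm (Nat.two_pow_pos a))
  obtain ⟨v, hv⟩ : ∃ v : Pts → K, (∑ i ∈ Finset.range (2 ^ a * m), g ^ i) *ᵥ v ≠ 0 := by
    by_contra h
    push Not at h
    exact hsum (Matrix.ext_iff_mulVec.2 fun v => (h v).trans (Matrix.zero_mulVec v).symm)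
  rw [sum_split, ← Matrix.mulVec_mulVec, ← hsdef] at hv
  set w := (∑ j ∈ Finset.range m, s ^ j) *ᵥ v with hw
  have hsw : s *ᵥ w = w := by
    have h1 : (∑ j ∈ Finset.range m, s ^ j) * (s - 1) = 0 := by rw [geom_sum_mul, hsm, sub_self]
    have hcs : Commute s (∑ j ∈ Finset.range m, s ^ j) :=
      Commute.sum_right _ _ _ fun j _ => Commute.self_pow s j
    rw [mul_sub, mul_one, sub_eq_zero] at h1
    rw [hw, Matrix.mulVec_mulVec, hcs.eq, h1]
  have hw0 : w ≠ 0 := fun e => hv (by rw [e, Matrix.mulVec_zero])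
  have hfix : fixS s ≠ ⊥ := (Submodule.ne_bot_iff _).2 ⟨w, mem_fixS.2 hsw, hw0⟩
  have hmdvd : m ∣ 3 ^ 4 * 7 ^ 2 * 13 := by
    refine (Nat.Coprime.dvd_of_dvd_mul_left (k := m) (m := 2 ^ 12) ?_ ?_)
    · exact Nat.Coprime.pow_right 12 hmodd.coprime_two_right
    · rw [show 2 ^ 12 * (3 ^ 4 * 7 ^ 2 * 13) = 2 ^ 12 * 3 ^ 4 * 7 ^ 2 * 13 by ring]
      exact (Dvd.intro_left _ rfl).trans hn
  -- the two-part
  obtain ⟨e, he1, he0⟩ := Nat.chineseRemainder (show Nat.Coprime (2 ^ a) m from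
    Nat.Coprime.pow_left a hmodd.coprime_two_left) 1 0
  set u := g ^ e with hudef
  have hu2 : u ^ 2 ^ a = 1 := by
    obtain ⟨c, hc⟩ := Nat.modEq_zero_iff_dvd.1 he0
    rw [hudef, hc, ← pow_mul, show m * c * 2 ^ a = 2 ^ a * m * c by ring, pow_mul, hgn, one_pow]
  have hug : ∀ x, s *ᵥ x = x → u *ᵥ x = g *ᵥ x := by
    intro x hx
    rcases Nat.eq_zero_or_pos a with rfl | ha
    · have hsg : s = g := by rw [hsdef, pow_zero, pow_one]
      have hgx : g *ᵥ x = x := hsg ▸ hx
      rw [hgx, hudef, pow_mulVec_of_fix hgx]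
    · have h2 : 1 % 2 ^ a = 1 := Nat.mod_eq_of_lt (Nat.one_lt_two_pow ha.ne')
      have hdiv : e = 2 ^ a * (e / 2 ^ a) + 1 := by
        have h3 : e % 2 ^ a = 1 := (show e % 2 ^ a = 1 % 2 ^ a from he1).trans h2
        have := Nat.div_add_mod e (2 ^ a)
        omega
      rw [hudef, hdiv, pow_succ', ← Matrix.mulVec_mulVec, pow_mul, ← hsdef, pow_mulVec_of_fix hx]
  have hsu : Commute s u := Commute.pow_pow (Commute.refl g) _ _
  have hsg : Commute s g := Commute.pow_left (Commute.refl g) _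
  rw [pow_add_one_of_fix hsg hug _ _ hsw] at hv
  have hnil : (u + 1) ^ 2 ^ a = 0 := by rw [add_one_pow_two_pow, hu2, matrix_add_self]
  have hA : a = 0 ∨ a = 1 ∨ a = 2 := by
    by_contra h
    push Not at h
    obtain ⟨t, ht⟩ := Nat.le.dest (show 7 ≤ 2 ^ a - 1 by
      have := Nat.pow_le_pow_right (show 1 ≤ 2 by norm_num) (show 3 ≤ a by omega)
      omega)
    apply hv
    rw [← ht, pow_add, huni e a hu2, zero_mul, Matrix.zero_mulVec]
  have h2 : a = 2 → (u + 1) ^ 2 *ᵥ w ≠ 0 := by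
    rintro rfl hz
    apply hv
    rw [show 2 ^ 2 - 1 = 1 + 2 from rfl, pow_add, ← Matrix.mulVec_mulVec, hz, Matrix.mulVec_zero]
  rcases small_order (hg.pow _) hmdvd hsm hsmin hfix with rfl | rfl | rfl | rfl <;>
    rcases hA with rfl | rfl | rfl <;> norm_num at hlist
  · -- twelve
    have hne : s ≠ 1 := by simpa using hsmin 1 one_pos (by norm_num)
    exact h2 rfl (three_case hK (hg.pow _) (hg.pow e) hsm hne hsu hnil hsw)
  · -- twenty-eight
    have hne : s ≠ 1 := by simpa using hsmin 1 one_pos (by norm_num)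
    exact h2 rfl (sq_kills_two hnil (hsu.add_right (Commute.one_right s))
      (fix_seven (hg.pow _) hsm hne) hsw)
  · -- eighteen
    refine hv ?_
    have h := nine_case (hg.pow _) (hg.pow e) hsm (hsmin 3 (by norm_num) (by norm_num)) hsu
      (by rw [← pow_two]; exact hnil) hfix hsw
    rw [show 2 ^ 1 - 1 = 1 from rfl, pow_one, add_one_mulVec, h]
    exact add_eq_zero'.2 rfl
  · -- thirty-six
    exact h2 rfl (sq_kills_two hnil (hsu.add_right (Commute.one_right s))
      (fix_nine (hg.pow _) hsm (hsmin 3 (by norm_num) (by norm_num))) hsw)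

end CfsgLib.TrialityIso
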