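import Cfsg.Agent.Lib.ChevClassical.D4
import Cfsg.Agent.Lib.ChevReg.D4Cyclic
import Cfsg.Agent.Lib.Twisted.D4Order
import Cfsg.Agent.Lib.TrialityIso.Norm
import Mathlib.GroupTheory.Sylow

/-!
The natural eight-dimensional representation of the twisted group of type D4 in characteristic two:
it is faithful, triality-compatible, and its two-elements are unipotent of class at most seven.
-/

set_option autoImplicit false
set_option linter.unusedSectionVars false
set_option linter.style.haveILetI false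
set_option linter.unnecessarySeqFocus false

namespace CfsgLib.TrialityIso

open Cfsg.Lie CfsgLib.Chev CfsgLib.ChevClassical Matrix

variable {K : Type*} [Field K] [CharP K 2]

local notation "hcD" => CfsgLib.Chev.D4.checked

/-- The root element in the natural representation. -/
noncomputable def natEl (K : Type*) [Field K] (r : ℕ) (t : K) : GL Pts K :=
  (CfsgLib.ChevClassical.D4.labelling K).el r t

/-- The positions of the entries of a root element. -/
def rootPair (r : ℕ) : Pts × Pts :=
  match CfsgLib.ChevClassical.D4.op r with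
  | .long a b _ => (a, b)
  | .short a b _ => (a, b)

/-- Every label is of long type, valid, with a unit sign. -/
def natCheck : Bool :=
  (List.range 24).all fun r => match CfsgLib.ChevClassical.D4.op r with
    | .long a b s => ((RootOp.long a b s).ok Sum.swap) && decide (s = 1 ∨ s = -1)
    | .short _ _ _ => false

theorem natCheck_ok : natCheck = true := by decide +kernel

theorem natEl_mulVec {r : ℕ} (hr : r < 24) (t : K) (v : Pts → K) :
    (natEl K r t : Matrix Pts Pts K) *ᵥ v = rootAct (rootPair r).1 (rootPair r).2 t v := by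
  have h := natCheck_ok
  simp only [natCheck, List.all_eq_true, List.mem_range] at h
  have h2 := h r hr
  show ((CfsgLib.ChevClassical.D4.op r).elt (plusForm K 4) t : Matrix Pts Pts K) *ᵥ v = _
  rw [rootPair]
  revert h2
  cases CfsgLib.ChevClassical.D4.op r with
  | short a b s => intro h2; cases h2
  | long a b s =>
    intro h2
    simp only [Bool.and_eq_true, decide_eq_true_eq] at h2
    rw [RootOp.elt_mulVec _ h2.1, entsMap_apply]
    simp only [RootOp.entries, List.map_cons, List.map_nil, List.sum_cons, List.sum_nil, add_zero, pow_one]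
    have hs : ((s : ℤ) : K) = 1 := by rcases h2.2 with rfl | rfl <;> simp [CharTwo.neg_eq]
    have hs' : ((-s : ℤ) : K) = 1 := by rw [Int.cast_neg, hs, CharTwo.neg_eq]
    funext i
    simp only [hs, hs', one_mul, Pi.add_apply, Pi.single_apply, rootAct, plusForm]
    ring

theorem rootAct_map {L : Type*} [Field L] (f : K →+* L) (a b : Pts) (t : K) (v : Pts → K) :
    rootAct a b (f t) (f ∘ v) = f ∘ rootAct a b t v := by
  funext i; simp [rootAct, apply_ite f]

theorem natEl_map {r : ℕ} (hr : r < 24) (k : ℕ) (t : K) :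
    (natEl K r t : Matrix Pts Pts K).map (fro k) = (natEl K r (fro k t) : Matrix Pts Pts K) := by
  refine Matrix.ext fun i j => ?_
  have h1 := congrFun (natEl_mulVec hr t (Pi.single j 1)) i
  have h2 := congrFun (natEl_mulVec hr (fro k t) (Pi.single j 1)) i
  rw [Matrix.mulVec_single_one] at h1 h2
  rw [Matrix.map_apply]
  have h3 : (Pi.single j (1 : K) : Pts → K) = fro k ∘ (Pi.single j (1 : K) : Pts → K) := by
    funext l
    rcases eq_or_ne l j with rfl | hl
    · simp
    · simp [Pi.single_eq_of_ne hl]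
  rw [h3, rootAct_map] at h2
  exact (congrArg (fro k) h1).trans h2.symm

/-! ### The homomorphism -/

omit [CharP K 2] in
theorem exists_lok (a : Pts) (c : Pts) : ∃ b, (plusForm K 4).LOK a b ∧ b ≠ c ∧ b ≠ Sum.swap c := by
  rcases a with i | i <;> rcases c with j | j <;>
    obtain ⟨k, hk1, hk2⟩ : ∃ k : Fin 4, k ≠ i ∧ k ≠ j := by decide +revert
  all_goals
    refine ⟨.inl k, ⟨?_, ?_, ?_, ?_⟩, ?_, ?_⟩ <;>
      simp [plusForm, hk1, hk2, Ne.symm hk1, Ne.symm hk2]

theorem eq_one_of_commute {A : GL Pts K} (hA : A ∈ (plusForm K 4).orth)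
    (hc : ∀ (a b : Pts) (h : (plusForm K 4).LOK a b), A * HypForm.opL h 1 = HypForm.opL h 1 * A) :
    A = 1 := by
  set H := plusForm K 4 with hH
  set M : Matrix Pts Pts K := (A : Matrix Pts Pts K) with hM
  have col : ∀ a b, H.LOK a b → ∀ i, M i a =
      (if i = a then M b b else 0) + (if i = Sum.swap b then M (Sum.swap a) b else 0) := by
    intro a b h i
    have e := congrArg (fun g : GL Pts K => ((g : Matrix Pts Pts K) *ᵥ Pi.single b 1) i) (hc a b h)
    simp only [mulVec_glMul, HypForm.opL_mulVec, HypForm.lMap_apply] at e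
    have hb1 : (Pi.single b (1 : K) : Pts → K) (H.bar a) = 0 :=
      Pi.single_eq_of_ne (fun e' => h.2.2.2 (by rw [← e', H.bar_bar])) _
    simp only [hb1, Pi.single_eq_same, mul_one, mul_zero, Pi.single_zero, add_zero, Matrix.mulVec_add,
      Pi.add_apply, Matrix.mulVec_single_one, Matrix.col_apply, Pi.single_apply, neg_zero, ← hM] at e
    have e2 : M i a = (if i = a then M b b else 0) + (if i = Sum.swap b then -(M (Sum.swap a) b) else 0) := by
      simp only [hH, plusForm, one_mul, neg_mul] at e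
      linear_combination e
    rwa [CharTwo.neg_eq] at e2
  have hdiag : ∀ a i, i ≠ a → M i a = 0 := by
    intro a i hi
    obtain ⟨b, hb, hb1, hb2⟩ := exists_lok (K := K) a i
    have := col a b hb i
    rwa [if_neg hi, if_neg (fun e => hb2 (by rw [e, Sum.swap_swap])), add_zero] at this
  have hconst : ∀ a b, H.LOK a b → M a a = M b b := by
    intro a b h
    have := col a b h a
    rwa [if_pos rfl, if_neg (show ¬ a = Sum.swap b from h.2.2.2), add_zero] at this
  have hall : ∀ a, M a a = M (.inl 0) (.inl 0) := by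
    intro a
    obtain ⟨b, hb, hb1, hb2⟩ := exists_lok (K := K) a (.inl 0)
    refine (hconst a b hb).trans (hconst b (.inl 0) ⟨?_, ?_, hb1, ?_⟩)
    · exact hb.2.1
    · simp [hH, plusForm]
    · simpa [hH, plusForm] using hb2
  set l := M (.inl 0) (.inl 0) with hl
  have hv : ∀ v : Pts → K, M *ᵥ v = l • v := by
    intro v
    funext i
    rw [Matrix.mulVec, dotProduct, Finset.sum_eq_single i (fun j _ hj => by
      rw [hdiag j i (Ne.symm hj), zero_mul]) (by simp), hall i]
    rfl
  have hQ := (H.mem_orth.1 hA) (Pi.single (.inl 0) 1 + Pi.single (.inr 0) 1)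
  rw [← hM, hv] at hQ
  simp [hH, plusForm, Cfsg.quadFormPlus, Pi.single_apply] at hQ
  have hl1 : l = 1 := by
    have h1 : (l - 1) * (l - 1) = 0 := by
      have h2 : (2 : K) = 0 := CharTwo.two_eq_zero
      linear_combination hQ + (1 - l) * h2
    exact sub_eq_zero.1 (mul_self_eq_zero.1 h1)
  apply Units.ext
  refine Matrix.ext_iff_mulVec.2 fun v => ?_
  rw [← hM, hv, hl1, one_smul, Units.val_one, Matrix.one_mulVec]

theorem exists_natHom (K : Type*) [Field K] [CharP K 2] :
    ∃ ρ : ↥(chevD4.group K) →* GL Pts K, Function.Injective ρ ∧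
      ∀ (r : ℕ) (hr : r < 24) (t : K), ρ ⟨elX chevD4 K r t, elX_mem_group hcD hr t⟩ = natEl K r t := by
  obtain ⟨θ, hθ, hker, hθx⟩ := Cfsg.Agent.S1077.result (K := K) chevD4 (by simp)
  set L := CfsgLib.ChevClassical.D4.labelling K with hL
  set h0 : chevD4.SteinbergGroup K →* GL Pts K := (plusForm K 4).orth.subtype.comp L.hom with hh0
  have hle : θ.ker ≤ h0.ker := fun z hz => by
    rw [hker] at hz
    refine MonoidHom.mem_ker.2 (eq_one_of_commute (L.hom z).2 fun a b h => ?_)
    have hmem : (⟨HypForm.opL h 1, HypForm.elemGroup_le_orth (HypForm.opL_mem h _)⟩ : ↥(plusForm K 4).orth)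
        ∈ L.hom.range := by
      rw [L.range_hom, Subgroup.mem_subgroupOf]; exact HypForm.opL_mem h _
    obtain ⟨y, hy⟩ := hmem
    have hy' : (L.hom y : GL Pts K) = HypForm.opL h 1 := congrArg Subtype.val hy
    show (L.hom z : GL Pts K) * _ = _ * (L.hom z : GL Pts K)
    rw [← hy', ← Subgroup.coe_mul, ← Subgroup.coe_mul, ← map_mul, ← map_mul,
      Subgroup.mem_center_iff.1 hz y]
  set ρ : ↥(chevD4.group K) →* GL Pts K :=
    (QuotientGroup.lift θ.ker h0 hle).comp (QuotientGroup.quotientKerEquivOfSurjective θ hθ).symm.toMonoidHom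
    with hρ
  have hspec : ∀ x, ρ (θ x) = h0 x := fun x => by
    have e : (QuotientGroup.quotientKerEquivOfSurjective θ hθ).symm (θ x) = (x : _ ⧸ θ.ker) := by
      rw [MulEquiv.symm_apply_eq]; rfl
    show (QuotientGroup.lift θ.ker h0 hle)
      ((QuotientGroup.quotientKerEquivOfSurjective θ hθ).symm (θ x)) = _
    rw [e]; rfl
  have hx : ∀ (r : ℕ) (hr : r < 24) (t : K),
      ρ ⟨elX chevD4 K r t, elX_mem_group hcD hr t⟩ = natEl K r t := by
    intro r hr t
    have e : θ (chevD4.stGen K r t) = ⟨elX chevD4 K r t, elX_mem_group hcD hr t⟩ := by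
      apply Subtype.ext; apply Units.ext
      rw [hθx r t hr, coe_elX hcD K hr]
    rw [← e, hspec]
    exact L.hom_stGen hr t
  refine ⟨ρ, ?_, hx⟩
  have hperf : commutator ↥(chevD4.group K) = ⊤ := by
    have h1 := congrArg (Subgroup.map θ)
      (perfect_of_single (D := chevD4) (F := K) (by simp) CfsgLib.ChevClassical.D4.single_check)
    rw [commutator_def, Subgroup.map_commutator, Subgroup.map_top_of_surjective θ hθ] at h1
    exact h1
  obtain ⟨hsimp, -⟩ := CfsgLib.Chev.isSimple_group_of_perfect (D := chevD4) (by simp) hperf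
  rw [← MonoidHom.ker_eq_bot_iff]
  rcases hsimp.eq_bot_or_eq_top_of_normal ρ.ker inferInstance with h | h
  · exact h
  · exfalso
    have h1 : natEl K 18 1 = 1 := by
      rw [← hx 18 (by norm_num) 1, ← MonoidHom.mem_ker, h]; trivial
    have h2 := natEl_mulVec (K := K) (r := 18) (by norm_num) 1 (Pi.single (.inl 1) 1)
    rw [h1, Units.val_one, Matrix.one_mulVec,
      show rootPair 18 = ((.inl 0 : Pts), (.inl 1 : Pts)) from by decide +kernel] at h2
    have h3 := congrFun h2 (.inl 0)
    simp [rootAct] at h3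

/-! ### Compatibility with triality -/

/-- The compatible matrices. -/
def goodSub (K : Type*) [Field K] [CharP K 2] [Finite K] : Subgroup (GL Pts K) where
  carrier := {g | Good (g : Matrix Pts Pts K)}
  mul_mem' {g h} hg hh := by
    show Good ((g * h : GL Pts K) : Matrix Pts Pts K)
    rw [Units.val_mul]; exact Good.mul hg hh
  one_mem' := by
    show Good ((1 : GL Pts K) : Matrix Pts Pts K)
    rw [Units.val_one]; exact Good.one
  inv_mem' {g} hg := by
    show Good ((g⁻¹ : GL Pts K) : Matrix Pts Pts K)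
    have h : g⁻¹ = g ^ (orderOf g - 1) := by
      refine inv_eq_of_mul_eq_one_right ?_
      rw [← pow_succ', Nat.sub_add_cancel (orderOf_pos g), pow_orderOf_eq_one]
    rw [h, Units.val_pow_eq_pow_val]
    exact Good.pow hg _

theorem cycle_mem :
    ∀ c ∈ ([(18, 12, 13), (12, 13, 18), (13, 18, 12), (5, 11, 10), (11, 10, 5), (10, 5, 11),
      (14, 14, 14), (9, 9, 9)] : List (ℕ × ℕ × ℕ)),
      (rootPair c.1, rootPair c.2.1, rootPair c.2.2) ∈ cycles := by
  have h : ∀ c ∈ ([(18, 12, 13), (12, 13, 18), (13, 18, 12), (5, 11, 10), (11, 10, 5), (10, 5, 11),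
      (14, 14, 14), (9, 9, 9)] : List (ℕ × ℕ × ℕ)),
      ∃ d ∈ cycles, d = (rootPair c.1, rootPair c.2.1, rootPair c.2.2) := by decide +kernel
  intro c hc
  obtain ⟨d, hd, rfl⟩ := h c hc
  exact hd

theorem tri_natEl {a b c : ℕ} (h : (a, b, c) ∈ [(18, 12, 13), (12, 13, 18), (13, 18, 12), (5, 11, 10),
      (11, 10, 5), (10, 5, 11), (14, 14, 14), (9, 9, 9)]) (t : K) (x y : Pts → K) :
    tri ((natEl K a t : Matrix Pts Pts K) *ᵥ x) ((natEl K b t : Matrix Pts Pts K) *ᵥ y) =
      (natEl K c t : Matrix Pts Pts K) *ᵥ tri x y := by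
  have hlt : a < 24 ∧ b < 24 ∧ c < 24 := by
    revert h
    simp only [List.mem_cons, Prod.mk.injEq, List.not_mem_nil, or_false]
    omega
  rw [natEl_mulVec hlt.1, natEl_mulVec hlt.2.1, natEl_mulVec hlt.2.2]
  exact tri_rootAct (cycle_mem _ h) t x y

theorem qf_natEl {a b c : ℕ} (h : (a, b, c) ∈ [(18, 12, 13), (12, 13, 18), (13, 18, 12), (5, 11, 10),
      (11, 10, 5), (10, 5, 11), (14, 14, 14), (9, 9, 9)]) (t : K) (x : Pts → K) :
    qf ((natEl K a t : Matrix Pts Pts K) *ᵥ x) = qf x := by
  have hlt : a < 24 := by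
    revert h
    simp only [List.mem_cons, Prod.mk.injEq, List.not_mem_nil, or_false]
    omega
  rw [natEl_mulVec hlt]
  exact qf_rootAct (cycle_mem _ h) t x

theorem rootAct_comm_18_13 (t u : K) (v : Pts → K) :
    rootAct (rootPair 18).1 (rootPair 18).2 t (rootAct (rootPair 13).1 (rootPair 13).2 u v) =
      rootAct (rootPair 13).1 (rootPair 13).2 u (rootAct (rootPair 18).1 (rootPair 18).2 t v) := by
  rw [show rootPair 18 = ((.inl 0 : Pts), (.inl 1 : Pts)) from by decide +kernel,
    show rootPair 13 = ((.inl 2 : Pts), (.inl 3 : Pts)) from by decide +kernel]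
  funext i
  rcases i with i | i <;> fin_cases i <;> simp [rootAct]

theorem rootAct_comm_18_12 (t u : K) (v : Pts → K) :
    rootAct (rootPair 18).1 (rootPair 18).2 t (rootAct (rootPair 12).1 (rootPair 12).2 u v) =
      rootAct (rootPair 12).1 (rootPair 12).2 u (rootAct (rootPair 18).1 (rootPair 18).2 t v) := by
  rw [show rootPair 18 = ((.inl 0 : Pts), (.inl 1 : Pts)) from by decide +kernel,
    show rootPair 12 = ((.inl 2 : Pts), (.inr 3 : Pts)) from by decide +kernel]
  funext i
  rcases i with i | i <;> fin_cases i <;> simp [rootAct]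

theorem rootAct_comm_13_12 (t u : K) (v : Pts → K) :
    rootAct (rootPair 13).1 (rootPair 13).2 t (rootAct (rootPair 12).1 (rootPair 12).2 u v) =
      rootAct (rootPair 12).1 (rootPair 12).2 u (rootAct (rootPair 13).1 (rootPair 13).2 t v) := by
  rw [show rootPair 12 = ((.inl 2 : Pts), (.inr 3 : Pts)) from by decide +kernel,
    show rootPair 13 = ((.inl 2 : Pts), (.inl 3 : Pts)) from by decide +kernel]
  funext i
  rcases i with i | i <;> fin_cases i <;> simp [rootAct] <;> ring

theorem rootAct_comm_5_10 (t u : K) (v : Pts → K) :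
    rootAct (rootPair 5).1 (rootPair 5).2 t (rootAct (rootPair 10).1 (rootPair 10).2 u v) =
      rootAct (rootPair 10).1 (rootPair 10).2 u (rootAct (rootPair 5).1 (rootPair 5).2 t v) := by
  rw [show rootPair 5 = ((.inr 0 : Pts), (.inr 1 : Pts)) from by decide +kernel,
    show rootPair 10 = ((.inr 2 : Pts), (.inr 3 : Pts)) from by decide +kernel]
  funext i
  rcases i with i | i <;> fin_cases i <;> simp [rootAct]

theorem rootAct_comm_5_11 (t u : K) (v : Pts → K) :
    rootAct (rootPair 5).1 (rootPair 5).2 t (rootAct (rootPair 11).1 (rootPair 11).2 u v) =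
      rootAct (rootPair 11).1 (rootPair 11).2 u (rootAct (rootPair 5).1 (rootPair 5).2 t v) := by
  rw [show rootPair 5 = ((.inr 0 : Pts), (.inr 1 : Pts)) from by decide +kernel,
    show rootPair 11 = ((.inr 2 : Pts), (.inl 3 : Pts)) from by decide +kernel]
  funext i
  rcases i with i | i <;> fin_cases i <;> simp [rootAct]

theorem rootAct_comm_10_11 (t u : K) (v : Pts → K) :
    rootAct (rootPair 10).1 (rootPair 10).2 t (rootAct (rootPair 11).1 (rootPair 11).2 u v) =
      rootAct (rootPair 11).1 (rootPair 11).2 u (rootAct (rootPair 10).1 (rootPair 10).2 t v) := by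
  rw [show rootPair 10 = ((.inr 2 : Pts), (.inr 3 : Pts)) from by decide +kernel,
    show rootPair 11 = ((.inr 2 : Pts), (.inl 3 : Pts)) from by decide +kernel]
  funext i
  rcases i with i | i <;> fin_cases i <;> simp [rootAct] <;> ring

theorem good_fixed [Fintype K] {r : ℕ} (hr : r = 14 ∨ r = 9) {t : K} (ht : t ^ 2 = t) :
    Good (natEl K r t : Matrix Pts Pts K) := by
  have h24 : r < 24 := by omega
  have hf : ∀ k, fro k t = t := fun k => by
    rw [fro_apply]
    induction k with
    | zero => simp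
    | succ k ih => rw [pow_succ, pow_mul, ih, ht]
  have hmem : (r, r, r) ∈ [((18 : ℕ), (12 : ℕ), (13 : ℕ)), (12, 13, 18), (13, 18, 12), (5, 11, 10),
      (11, 10, 5), (10, 5, 11), (14, 14, 14), (9, 9, 9)] := by rcases hr with rfl | rfl <;> decide
  refine ⟨fun v => qf_natEl hmem t v, fun x y => ?_⟩
  rw [natEl_map h24, natEl_map h24, hf, hf]
  exact tri_natEl hmem t x y

theorem good_triple [Fintype K] (hK : Fintype.card K = 8) {a b c : ℕ}
    (h : (a, b, c) = (18, 13, 12) ∨ (a, b, c) = (5, 10, 11)) (t : K) :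
    Good ((natEl K a t * natEl K b (t ^ 2) * natEl K c (t ^ (2 ^ 2)) : GL Pts K) : Matrix Pts Pts K) := by
  have hlt : a < 24 ∧ b < 24 ∧ c < 24 := by rcases h with h | h <;> cases h <;> norm_num
  obtain ⟨m1, m2, m3⟩ : (a, c, b) ∈ [((18 : ℕ), (12 : ℕ), (13 : ℕ)), (12, 13, 18), (13, 18, 12),
      (5, 11, 10), (11, 10, 5), (10, 5, 11), (14, 14, 14), (9, 9, 9)] ∧
      (b, a, c) ∈ [((18 : ℕ), (12 : ℕ), (13 : ℕ)), (12, 13, 18), (13, 18, 12),
      (5, 11, 10), (11, 10, 5), (10, 5, 11), (14, 14, 14), (9, 9, 9)] ∧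
      (c, b, a) ∈ [((18 : ℕ), (12 : ℕ), (13 : ℕ)), (12, 13, 18), (13, 18, 12),
      (5, 11, 10), (11, 10, 5), (10, 5, 11), (14, 14, 14), (9, 9, 9)] := by
    rcases h with h | h <;> cases h <;> decide
  have t8 : t ^ 8 = t := hK ▸ FiniteField.pow_card t
  have c1 : ∀ (u w : K) (v : Pts → K),
      rootAct (rootPair a).1 (rootPair a).2 u (rootAct (rootPair b).1 (rootPair b).2 w v) =
      rootAct (rootPair b).1 (rootPair b).2 w (rootAct (rootPair a).1 (rootPair a).2 u v) := by
    rcases h with h | h <;> cases h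
    exacts [rootAct_comm_18_13, rootAct_comm_5_10]
  have c2 : ∀ (u w : K) (v : Pts → K),
      rootAct (rootPair a).1 (rootPair a).2 u (rootAct (rootPair c).1 (rootPair c).2 w v) =
      rootAct (rootPair c).1 (rootPair c).2 w (rootAct (rootPair a).1 (rootPair a).2 u v) := by
    rcases h with h | h <;> cases h
    exacts [rootAct_comm_18_12, rootAct_comm_5_11]
  have c3 : ∀ (u w : K) (v : Pts → K),
      rootAct (rootPair b).1 (rootPair b).2 u (rootAct (rootPair c).1 (rootPair c).2 w v) =
      rootAct (rootPair c).1 (rootPair c).2 w (rootAct (rootPair b).1 (rootPair b).2 u v) := by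
    rcases h with h | h <;> cases h
    exacts [rootAct_comm_13_12, rootAct_comm_10_11]
  refine ⟨fun v => ?_, fun x y => ?_⟩
  · simp only [Units.val_mul, ← Matrix.mulVec_mulVec]
    rw [qf_natEl m1, qf_natEl m2, qf_natEl m3]
  · have f1 : ∀ u : K, fro 1 u = u ^ 2 := fun u => by rw [fro_apply]; norm_num
    have f2 : ∀ u : K, fro 2 u = u ^ 4 := fun u => by rw [fro_apply]; norm_num
    have e44 : (t ^ 4) ^ 4 = t ^ 2 := by rw [← pow_mul, show 4 * 4 = 8 + 8 by rfl, pow_add, t8, pow_two]
    have e24 : (t ^ 2) ^ 4 = t := by rw [← pow_mul]; exact t8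
    have e42 : (t ^ 4) ^ 2 = t := by rw [← pow_mul]; exact t8
    have e22 : (t ^ 2) ^ 2 = t ^ 4 := by rw [← pow_mul]
    simp only [Units.val_mul, Matrix.map_mul, ← Matrix.mulVec_mulVec, natEl_map hlt.1, natEl_map hlt.2.1,
      natEl_map hlt.2.2, f1, f2, show (2 : ℕ) ^ 2 = 4 from rfl, e44, e24, e42, e22]
    -- second factor: a(t²) b(t⁴) c(t), rewritten as c(t) a(t²) b(t⁴)
    have hy : (natEl K a (t ^ 2) : Matrix Pts Pts K) *ᵥ ((natEl K b (t ^ 4) : Matrix Pts Pts K) *ᵥ
          ((natEl K c t : Matrix Pts Pts K) *ᵥ y)) =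
        (natEl K c t : Matrix Pts Pts K) *ᵥ ((natEl K a (t ^ 2) : Matrix Pts Pts K) *ᵥ
          ((natEl K b (t ^ 4) : Matrix Pts Pts K) *ᵥ y)) := by
      simp only [natEl_mulVec hlt.1, natEl_mulVec hlt.2.1, natEl_mulVec hlt.2.2]
      rw [c3, c2]
    rw [hy, tri_natEl m1, tri_natEl m2, tri_natEl m3]
    simp only [natEl_mulVec hlt.1, natEl_mulVec hlt.2.1, natEl_mulVec hlt.2.2]
    rw [← c2, ← c1]

/-! ### The unipotent subgroup -/

/-- The height of a basis vector. -/
def ht : Pts → ℕ := Sum.elim ![0, 1, 2, 3] ![6, 5, 4, 3]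

theorem pos_up : ∀ r < 24, chevD4.IsPosRoot r →
    ht (rootPair r).1 < ht (rootPair r).2 ∧ ht (rootPair r).2.swap < ht (rootPair r).1.swap := by
  decide +kernel

theorem ht_le (i : Pts) : ht i ≤ 6 := by revert i; decide

/-- The matrices which are unipotent and triangular for the height. -/
def upSub (K : Type*) [Field K] [Finite K] : Subgroup (GL Pts K) where
  carrier := {g | ∀ i j, ht j ≤ ht i → (g : Matrix Pts Pts K) i j = (1 : Matrix Pts Pts K) i j}
  mul_mem' {g h} hg hh i j hij := by
    show ((g * h : GL Pts K) : Matrix Pts Pts K) i j = _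
    rw [Units.val_mul, Matrix.mul_apply, Finset.sum_eq_single i (fun k _ hk => ?_) (by simp)]
    · rw [hg i i le_rfl, Matrix.one_apply_eq, one_mul, hh i j hij]
    · rcases Nat.le_total (ht k) (ht i) with h1 | h1
      · rw [hg i k h1, Matrix.one_apply_ne (Ne.symm hk), zero_mul]
      · rw [hh k j (hij.trans h1)]
        by_cases hkj : k = j
        · subst hkj
          rw [hg i k hij, Matrix.one_apply_ne (Ne.symm hk), zero_mul]
        · rw [Matrix.one_apply_ne hkj, mul_zero]
  one_mem' i j _ := rfl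
  inv_mem' {g} hg i j hij := by
    have hpow : ∀ n : ℕ, ∀ i j, ht j ≤ ht i →
        ((g ^ n : GL Pts K) : Matrix Pts Pts K) i j = (1 : Matrix Pts Pts K) i j := by
      intro n
      induction n with
      | zero => intro i j _; rw [pow_zero]; rfl
      | succ n ih =>
        intro i j hij
        rw [pow_succ, Units.val_mul, Matrix.mul_apply, Finset.sum_eq_single i (fun k _ hk => ?_) (by simp)]
        · rw [ih i i le_rfl, Matrix.one_apply_eq, one_mul, hg i j hij]
        · rcases Nat.le_total (ht k) (ht i) with h1 | h1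
          · rw [ih i k h1, Matrix.one_apply_ne (Ne.symm hk), zero_mul]
          · rw [hg k j (hij.trans h1)]
            by_cases hkj : k = j
            · subst hkj
              rw [ih i k hij, Matrix.one_apply_ne (Ne.symm hk), zero_mul]
            · rw [Matrix.one_apply_ne hkj, mul_zero]
    have h : g⁻¹ = g ^ (orderOf g - 1) := by
      refine inv_eq_of_mul_eq_one_right ?_
      rw [← pow_succ', Nat.sub_add_cancel (orderOf_pos g), pow_orderOf_eq_one]
    show ((g⁻¹ : GL Pts K) : Matrix Pts Pts K) i j = _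
    rw [h]; exact hpow _ i j hij

theorem natEl_up [Finite K] {r : ℕ} (hr : r < 24) (hp : chevD4.IsPosRoot r) (t : K) :
    natEl K r t ∈ upSub K := fun i j hij => by
  have h1 := congrFun (natEl_mulVec hr t (Pi.single j 1)) i
  rw [Matrix.mulVec_single_one, Matrix.col_apply] at h1
  rw [h1, rootAct]
  obtain ⟨p1, p2⟩ := pos_up r hr hp
  have e1 : (if i = (rootPair r).1 then t * (Pi.single j (1 : K) : Pts → K) (rootPair r).2 else 0) = 0 := by
    split_ifs with e
    · rw [Pi.single_eq_of_ne (fun e' => ?_), mul_zero]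
      subst e e'; omega
    · rfl
  have e2 : (if i = (rootPair r).2.swap then t * (Pi.single j (1 : K) : Pts → K) (rootPair r).1.swap else 0) = 0 := by
    split_ifs with e
    · rw [Pi.single_eq_of_ne (fun e' => ?_), mul_zero]
      subst e e'; omega
    · rfl
  rw [e1, e2, add_zero, add_zero, Pi.single_apply, Matrix.one_apply]

theorem up_pow_seven [Finite K] {g : GL Pts K} (hg : g ∈ upSub K) :
    ((g : Matrix Pts Pts K) + 1) ^ 7 = 0 := by
  set N := (g : Matrix Pts Pts K) + 1 with hN
  have key : ∀ k i j, ht j < ht i + k → (N ^ k) i j = 0 := by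
    intro k
    induction k with
    | zero =>
      intro i j h
      rw [pow_zero, Matrix.one_apply_ne]
      rintro rfl; omega
    | succ k ih =>
      intro i j h
      rw [pow_succ, Matrix.mul_apply]
      refine Finset.sum_eq_zero fun l _ => ?_
      by_cases hl : ht l < ht i + k
      · rw [ih i l hl, zero_mul]
      · rw [hN, Matrix.add_apply, hg l j (by omega), CharTwo.add_self_eq_zero, mul_zero]
  refine Matrix.ext fun i j => key 7 i j ?_
  have := ht_le j
  omega

/-- The natural representation of the twisted group. -/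
theorem exists_twisted_natural [Fintype K] (hK : Fintype.card K = 8) :
    ∃ ρ : ↥(twistedD4 K 2) →* GL Pts K, Function.Injective ρ ∧
      (∀ g, Good (ρ g : Matrix Pts Pts K)) ∧
      (∀ (r : ℕ) (hr : r < 24) (t : K) (h : elX chevD4 K r t ∈ twistedD4 K 2),
        ρ ⟨elX chevD4 K r t, h⟩ = natEl K r t) ∧
      (∀ (a b c : ℕ) (ha : a < 24) (hb : b < 24) (hc : c < 24) (t u w : K)
        (h : elX chevD4 K a t * elX chevD4 K b u * elX chevD4 K c w ∈ twistedD4 K 2),
        ρ ⟨elX chevD4 K a t * elX chevD4 K b u * elX chevD4 K c w, h⟩ =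
          natEl K a t * natEl K b u * natEl K c w) ∧
      ∀ g, ∀ a : ℕ, g ^ 2 ^ a = 1 → ((ρ g : Matrix Pts Pts K) + 1) ^ 7 = 0 := by
  obtain ⟨ρ₀, hinj, hx⟩ := exists_natHom K
  set ι := Subgroup.inclusion (CfsgLib.ChevReg.D4.twisted_le_group (K := K) (q := 2)) with hι
  set ρ : ↥(twistedD4 K 2) →* GL Pts K := ρ₀.comp ι with hρ
  have hρinj : Function.Injective ρ := hinj.comp (Subgroup.inclusion_injective _)
  have hprod : ∀ (a b c : ℕ) (ha : a < 24) (hb : b < 24) (hc : c < 24) (t u w : K)
      (h : elX chevD4 K a t * elX chevD4 K b u * elX chevD4 K c w ∈ chevD4.group K),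
      ρ₀ ⟨elX chevD4 K a t * elX chevD4 K b u * elX chevD4 K c w, h⟩ =
        natEl K a t * natEl K b u * natEl K c w := by
    intro a b c ha hb hc t u w h
    rw [← hx a ha t, ← hx b hb u, ← hx c hc w, ← map_mul, ← map_mul]
    rfl
  refine ⟨ρ, hρinj, ?_, fun r hr t h => hx r hr t, fun a b c ha hb hc t u w h =>
    hprod a b c ha hb hc t u w _, ?_⟩
  · have hle : twistedD4 K 2 ≤ ((goodSub K).comap ρ₀).map (chevD4.group K).subtype := by
      rw [twistedD4, ChevalleyDatum.genSubgroup, Subgroup.closure_le]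
      rintro g ⟨w, hw, hg⟩
      rcases hw with ⟨t, ht, r, hr, rfl⟩ | ⟨t, rs, hrs, rfl⟩
      · have hlt : r = 14 ∨ r = 9 := by simpa [d4p2, d4m2] using hr
        have h24 : r < 24 := by omega
        have e : g = elX chevD4 K r t := by
          ext1; rw [hg, coe_elX hcD K h24]; simp [ChevalleyDatum.wordMat]
        refine ⟨⟨elX chevD4 K r t, elX_mem_group hcD h24 t⟩, ?_, e.symm⟩
        show Good (ρ₀ _ : Matrix Pts Pts K)
        rw [hx r h24 t]
        exact good_fixed hlt ht
      · have hrs' : rs = (18, 13, 12) ∨ rs = (5, 10, 11) := by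
          simpa [d4p1, d4p3, d4p4, d4m1, d4m3, d4m4] using hrs
        obtain ⟨a, b, c⟩ := rs
        have h24 : a < 24 ∧ b < 24 ∧ c < 24 := by rcases hrs' with h | h <;> cases h <;> norm_num
        have e : g = elX chevD4 K a t * elX chevD4 K b (t ^ 2) * elX chevD4 K c (t ^ (2 ^ 2)) := by
          ext1
          rw [hg, Units.val_mul, Units.val_mul, coe_elX hcD K h24.1, coe_elX hcD K h24.2.1,
            coe_elX hcD K h24.2.2]
          simp [ChevalleyDatum.wordMat, mul_assoc]
        have hmem := mul_mem (mul_mem (elX_mem_group hcD h24.1 t) (elX_mem_group hcD h24.2.1 (t ^ 2)))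
          (elX_mem_group hcD h24.2.2 (t ^ (2 ^ 2)))
        refine ⟨⟨_, hmem⟩, ?_, e.symm⟩
        show Good (ρ₀ _ : Matrix Pts Pts K)
        rw [hprod a b c h24.1 h24.2.1 h24.2.2]
        exact good_triple hK hrs' t
    rintro ⟨g, hg⟩
    obtain ⟨⟨g', hg'⟩, hgood, rfl⟩ := hle hg
    exact hgood
  · intro g a hga
    haveI := Fact.mk Nat.prime_two
    have hq : IsPrimePow 2 := Nat.prime_two.isPrimePow
    have hK' : Fintype.card K = 2 ^ 3 := hK
    set U := (chevD4.posUnipotent K ⊓ twistedD4 K 2).subgroupOf (twistedD4 K 2) with hU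
    have hUc : Nat.card U = 2 ^ 12 :=
      (Nat.card_congr (Subgroup.subgroupOfEquivOfLe inf_le_right).toEquiv).trans
        (CfsgLib.Twisted.D4.card_unipotent hq hK')
    have hG : Nat.card ↥(twistedD4 K 2) = 2 ^ 12 * 51597 :=
      (CfsgLib.Twisted.D4.card_group_twisted hq hK').trans (by norm_num)
    let S : Sylow 2 ↥(twistedD4 K 2) := Sylow.ofCard U (by
      rw [hUc, hG, Nat.factorization_mul (by norm_num) (by norm_num), Finsupp.add_apply,
        Nat.Prime.factorization_pow Nat.prime_two, Finsupp.single_eq_same,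
        Nat.factorization_eq_zero_of_not_dvd (by norm_num)])
    have hz : IsPGroup 2 (Subgroup.zpowers g) := by
      obtain ⟨k, -, hk⟩ := (Nat.dvd_prime_pow Nat.prime_two).1 (orderOf_dvd_of_pow_eq_one hga)
      exact IsPGroup.of_card (n := k) (by rw [Nat.card_zpowers, hk])
    obtain ⟨T, hT⟩ := hz.exists_le_sylow
    obtain ⟨x, hx'⟩ := MulAction.exists_smul_eq ↥(twistedD4 K 2) T S
    have hmem : x * g * x⁻¹ ∈ U := by
      have h1 : x * g * x⁻¹ ∈ (x • T : Sylow 2 ↥(twistedD4 K 2)) := by
        rw [Sylow.smul_def]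
        exact Subgroup.mem_map_of_mem _ (hT (Subgroup.mem_zpowers g))
      rw [hx'] at h1
      exact h1
    have hup : ρ (x * g * x⁻¹) ∈ upSub K := by
      have hle : chevD4.posUnipotent K ≤ ((upSub K).comap ρ₀).map (chevD4.group K).subtype := by
        rw [ChevalleyDatum.posUnipotent, Subgroup.closure_le]
        rintro y ⟨r, t, hr, hy⟩
        refine ⟨⟨elX chevD4 K r t, elX_mem_group hcD hr.1 t⟩, ?_, Units.ext ((coe_elX hcD K hr.1 t).trans hy.symm)⟩
        show ρ₀ _ ∈ upSub K
        rw [hx r hr.1 t]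
        exact natEl_up hr.1 hr t
      obtain ⟨⟨y, hy⟩, hyu, hye⟩ := hle (Subgroup.mem_subgroupOf.1 hmem).1
      have : ι (x * g * x⁻¹) = ⟨y, hy⟩ := Subtype.ext hye.symm
      show ρ₀ (ι (x * g * x⁻¹)) ∈ upSub K
      rw [this]
      exact hyu
    have h7 := up_pow_seven hup
    set X := ρ x with hX
    have e : ((ρ (x * g * x⁻¹) : GL Pts K) : Matrix Pts Pts K) + 1 =
        (X : Matrix Pts Pts K) * ((ρ g : Matrix Pts Pts K) + 1) * ((X⁻¹ : GL Pts K) : Matrix Pts Pts K) := by
      rw [map_mul, map_mul, map_inv, Units.val_mul, Units.val_mul, mul_add, add_mul, mul_one, Units.mul_inv]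
    rw [e, Units.conj_pow] at h7
    have h8 := congrArg (fun M => ((X⁻¹ : GL Pts K) : Matrix Pts Pts K) * M * (X : Matrix Pts Pts K)) h7
    simpa [mul_assoc] using h8

end CfsgLib.TrialityIso
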