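import Mathlib.Algebra.CharP.Two
import Mathlib.Data.Fin.VecNotation
import Mathlib.Data.Fintype.Basic
import Mathlib.Tactic.Ring
import Mathlib.Tactic.FinCases

/-!
The triality product on the natural module of the plus-type orthogonal group of dimension eight in
characteristic two, and its behaviour under the root elements.
-/

set_option autoImplicit false

namespace CfsgLib.TrialityIso

variable {K : Type*} [CommRing K]

/-- The index set of the natural module. -/
abbrev Pts := Fin 4 ⊕ Fin 4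

/-- The quadratic form. -/
def qf (x : Pts → K) : K := x (.inl 0) * x (.inr 0) + x (.inl 1) * x (.inr 1) + x (.inl 2) * x (.inr 2) + x (.inl 3) * x (.inr 3)

/-- Its polar. -/
def pol (x y : Pts → K) : K :=
  x (.inl 0) * y (.inr 0) + x (.inr 0) * y (.inl 0) + x (.inl 1) * y (.inr 1) + x (.inr 1) * y (.inl 1) +
  x (.inl 2) * y (.inr 2) + x (.inr 2) * y (.inl 2) + x (.inl 3) * y (.inr 3) + x (.inr 3) * y (.inl 3)

/-- The triality product. -/
def tri (x y : Pts → K) : Pts → K :=
  Sum.elim
    ![x (.inl 0) * y (.inr 3) + x (.inl 1) * y (.inl 2) + x (.inl 2) * y (.inl 1) + x (.inl 3) * y (.inl 0),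
      x (.inl 0) * y (.inr 2) + x (.inl 1) * y (.inl 3) + x (.inr 2) * y (.inl 0) + x (.inr 3) * y (.inl 1),
      x (.inl 0) * y (.inr 1) + x (.inl 2) * y (.inl 3) + x (.inr 1) * y (.inl 0) + x (.inr 3) * y (.inl 2),
      x (.inl 1) * y (.inr 1) + x (.inl 2) * y (.inr 2) + x (.inr 0) * y (.inl 0) + x (.inr 3) * y (.inr 3)]
    ![x (.inr 0) * y (.inl 3) + x (.inr 1) * y (.inr 2) + x (.inr 2) * y (.inr 1) + x (.inr 3) * y (.inr 0),
      x (.inl 2) * y (.inr 0) + x (.inl 3) * y (.inr 1) + x (.inr 0) * y (.inl 2) + x (.inr 1) * y (.inr 3),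
      x (.inl 1) * y (.inr 0) + x (.inl 3) * y (.inr 2) + x (.inr 0) * y (.inl 1) + x (.inr 2) * y (.inr 3),
      x (.inl 0) * y (.inr 0) + x (.inl 3) * y (.inl 3) + x (.inr 1) * y (.inl 1) + x (.inr 2) * y (.inl 2)]

/-- The action of the root element with entries at `(a, b)` and `(bar b, bar a)`. -/
def rootAct (a b : Pts) (t : K) (v : Pts → K) : Pts → K :=
  fun i => v i + (if i = a then t * v b else 0) + (if i = b.swap then t * v a.swap else 0)

theorem tri_add_left (x x' y : Pts → K) : tri (x + x') y = tri x y + tri x' y := by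
  funext c
  rcases c with c | c <;> fin_cases c <;> simp [tri] <;> ring

theorem tri_add_right (x y y' : Pts → K) : tri x (y + y') = tri x y + tri x y' := by
  funext c
  rcases c with c | c <;> fin_cases c <;> simp [tri] <;> ring

theorem tri_smul_left (k : K) (x y : Pts → K) : tri (k • x) y = k • tri x y := by
  funext c
  rcases c with c | c <;> fin_cases c <;> simp [tri] <;> ring

theorem tri_smul_right (k : K) (x y : Pts → K) : tri x (k • y) = k • tri x y := by
  funext c
  rcases c with c | c <;> fin_cases c <;> simp [tri] <;> ring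

variable [CharP K 2]


theorem pol_tri_left (x y z : Pts → K) : pol (tri x y) (tri x z) = qf x * pol y z := by
  rw [← CharTwo.add_eq_zero]
  simp [pol, qf, tri]
  ring_nf
  simp [CharTwo.two_eq_zero]

theorem pol_tri_right (x x' y : Pts → K) : pol (tri x y) (tri x' y) = qf y * pol x x' := by
  rw [← CharTwo.add_eq_zero]
  simp [pol, qf, tri]
  ring_nf
  simp [CharTwo.two_eq_zero]

/-- three root pairs in a triality cycle, or one fixed by triality -/
def cycles : List ((Pts × Pts) × (Pts × Pts) × (Pts × Pts)) :=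
  [((.inl 0, .inl 1), (.inl 2, .inr 3), (.inl 2, .inl 3)),
   ((.inl 2, .inr 3), (.inl 2, .inl 3), (.inl 0, .inl 1)),
   ((.inl 2, .inl 3), (.inl 0, .inl 1), (.inl 2, .inr 3)),
   ((.inr 0, .inr 1), (.inr 2, .inl 3), (.inr 2, .inr 3)),
   ((.inr 2, .inl 3), (.inr 2, .inr 3), (.inr 0, .inr 1)),
   ((.inr 2, .inr 3), (.inr 0, .inr 1), (.inr 2, .inl 3)),
   ((.inl 1, .inl 2), (.inl 1, .inl 2), (.inl 1, .inl 2)),
   ((.inr 1, .inr 2), (.inr 1, .inr 2), (.inr 1, .inr 2))]

set_option maxHeartbeats 4000000 in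
theorem tri_rootAct {c : (Pts × Pts) × (Pts × Pts) × (Pts × Pts)} (hc : c ∈ cycles) (t : K)
    (x y : Pts → K) :
    tri (rootAct c.1.1 c.1.2 t x) (rootAct c.2.1.1 c.2.1.2 t y) =
      rootAct c.2.2.1 c.2.2.2 t (tri x y) := by
  simp only [cycles, List.mem_cons, List.not_mem_nil, or_false] at hc
  rcases hc with rfl | rfl | rfl | rfl | rfl | rfl | rfl | rfl <;>
    funext i <;> rcases i with i | i <;> fin_cases i <;>
    rw [← CharTwo.add_eq_zero] <;> simp [tri, rootAct] <;> ring_nf <;> simp [CharTwo.two_eq_zero]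

theorem qf_rootAct {c : (Pts × Pts) × (Pts × Pts) × (Pts × Pts)} (hc : c ∈ cycles) (t : K)
    (x : Pts → K) : qf (rootAct c.1.1 c.1.2 t x) = qf x := by
  simp only [cycles, List.mem_cons, List.not_mem_nil, or_false] at hc
  rcases hc with rfl | rfl | rfl | rfl | rfl | rfl | rfl | rfl <;>
    rw [← CharTwo.add_eq_zero] <;> simp [qf, rootAct] <;> ring_nf <;> simp [CharTwo.two_eq_zero]

end CfsgLib.TrialityIso
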