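import Cfsg.Agent.Lib.TrialityIso.Octonion
import Mathlib.LinearAlgebra.Matrix.Charpoly.Basic
import Mathlib.LinearAlgebra.Matrix.Charpoly.Coeff
import Mathlib.LinearAlgebra.Matrix.Charpoly.Minpoly
import Mathlib.LinearAlgebra.Matrix.NonsingularInverse
import Mathlib.LinearAlgebra.Matrix.ToLin
import Mathlib.LinearAlgebra.Eigenspace.Zero
import Mathlib.FieldTheory.IsAlgClosed.AlgebraicClosure
import Mathlib.FieldTheory.Separable
import Mathlib.FieldTheory.Finite.Basic
import Mathlib.GroupTheory.Perm.Cycle.Type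

/-!
Fixed spaces and eigenvalues of the matrices commuting with the triality product on the natural
module of dimension eight over a finite field of characteristic two.
-/

set_option autoImplicit false
set_option linter.unusedSectionVars false

namespace CfsgLib.TrialityIso

open Matrix Module

variable {K : Type*} [Field K] [CharP K 2]

/-! ### The polar form -/

theorem qf_add (x y : Pts → K) : qf (x + y) = qf x + qf y + pol x y := by
  simp [qf, pol]; ring

theorem qf_zero : qf (0 : Pts → K) = 0 := by simp [qf]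

theorem pol_self (x : Pts → K) : pol x x = 0 := by
  simp [pol]; ring_nf; simp [CharTwo.two_eq_zero]

theorem pol_comm (x y : Pts → K) : pol x y = pol y x := by simp [pol]; ring

theorem pol_add_right (x y z : Pts → K) : pol x (y + z) = pol x y + pol x z := by simp [pol]; ring

theorem pol_add_left (x y z : Pts → K) : pol (x + y) z = pol x z + pol y z := by simp [pol]; ring

theorem pol_smul_left (c : K) (x z : Pts → K) : pol (c • x) z = c * pol x z := by simp [pol]; ring

theorem pol_zero_left (z : Pts → K) : pol (0 : Pts → K) z = 0 := by simp [pol]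

theorem pol_single (x : Pts → K) (a : Pts) : pol x (Pi.single a 1) = x a.swap := by
  rcases a with a | a <;> fin_cases a <;> simp [pol, Pi.single_apply]

theorem pol_nondeg {x : Pts → K} (h : ∀ y, pol x y = 0) : x = 0 := by
  funext a
  have := h (Pi.single a.swap 1)
  rwa [pol_single, Sum.swap_swap] at this

theorem tri_zero_right (x : Pts → K) : tri x 0 = 0 := by
  have h := tri_smul_right (0 : K) x 0
  rwa [zero_smul, zero_smul] at h

theorem tri_zero_left (y : Pts → K) : tri 0 y = 0 := by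
  have h := tri_smul_left (0 : K) 0 y
  rwa [zero_smul, zero_smul] at h

theorem tri_left_inj {x : Pts → K} (hx : qf x ≠ 0) {y : Pts → K} (h : tri x y = 0) : y = 0 := by
  refine pol_nondeg fun z => ?_
  have := pol_tri_left x y z
  rw [h, pol_zero_left] at this
  exact (mul_eq_zero.1 this.symm).resolve_left hx

theorem tri_right_inj {y : Pts → K} (hy : qf y ≠ 0) {x : Pts → K} (h : tri x y = 0) : x = 0 := by
  refine pol_nondeg fun z => ?_
  have := pol_tri_right x z y
  rw [h, pol_zero_left] at this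
  exact (mul_eq_zero.1 this.symm).resolve_left hy

/-! ### Fixed and moved spaces -/

/-- The fixed space. -/
def fixS (s : Matrix Pts Pts K) : Submodule K (Pts → K) := LinearMap.ker (s + 1).mulVecLin

/-- The moved space. -/
def movS (s : Matrix Pts Pts K) : Submodule K (Pts → K) := LinearMap.range (s + 1).mulVecLin

theorem add_one_mulVec (s : Matrix Pts Pts K) (v : Pts → K) : (s + 1) *ᵥ v = s *ᵥ v + v := by
  rw [Matrix.add_mulVec, Matrix.one_mulVec]

theorem add_eq_zero' {v w : Pts → K} : v + w = 0 ↔ v = w :=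
  ⟨fun h => funext fun i => CharTwo.add_eq_zero.1 (congrFun h i),
    fun h => funext fun i => CharTwo.add_eq_zero.2 (congrFun h i)⟩

theorem mem_fixS {s : Matrix Pts Pts K} {v : Pts → K} : v ∈ fixS s ↔ s *ᵥ v = v := by
  rw [fixS, LinearMap.mem_ker, Matrix.mulVecLin_apply, add_one_mulVec, add_eq_zero']

theorem mem_movS {s : Matrix Pts Pts K} {v : Pts → K} : v ∈ movS s ↔ ∃ z, s *ᵥ z + z = v := by
  simp [movS, LinearMap.mem_range, add_one_mulVec]

theorem finrank_fix_add_mov (s : Matrix Pts Pts K) : finrank K (fixS s) + finrank K (movS s) = 8 := by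
  rw [fixS, movS, add_comm, LinearMap.finrank_range_add_finrank_ker, Module.finrank_pi]
  simp

/-- The isometries of the polar form. -/
def Iso (s : Matrix Pts Pts K) : Prop := ∀ x y, pol (s *ᵥ x) (s *ᵥ y) = pol x y

theorem pol_fix_mov {s : Matrix Pts Pts K} (hs : Iso s) {v w : Pts → K} (hv : v ∈ fixS s)
    (hw : w ∈ movS s) : pol v w = 0 := by
  obtain ⟨z, rfl⟩ := mem_movS.1 hw
  rw [pol_add_right, CharTwo.add_eq_zero]
  have := hs v z
  rwa [mem_fixS.1 hv] at this

theorem pow_mulVec_of_fix {s : Matrix Pts Pts K} {v : Pts → K} (h : s *ᵥ v = v) (j : ℕ) :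
    (s ^ j) *ᵥ v = v := by
  induction j with
  | zero => simp
  | succ j ih => rw [pow_succ, ← Matrix.mulVec_mulVec, h, ih]

theorem disjoint_fix_mov {s : Matrix Pts Pts K} {m : ℕ} (hm : Odd m) (hs : s ^ m = 1) :
    Disjoint (fixS s) (movS s) := by
  rw [Submodule.disjoint_def]
  intro w hw hw'
  obtain ⟨z, rfl⟩ := mem_movS.1 hw'
  set P := ∑ j ∈ Finset.range m, s ^ j with hP
  have hPs : P * (s + 1) = 0 := by
    have h := geom_sum_mul s m
    rw [hs, sub_self, ← hP] at h
    have h2 : (s + 1) = (s - 1) := by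
      ext i j
      simp [CharTwo.sub_eq_add]
    rw [h2, h]
  have h1 : P *ᵥ (s *ᵥ z + z) = s *ᵥ z + z := by
    rw [hP, Matrix.sum_mulVec]
    simp only [pow_mulVec_of_fix (mem_fixS.1 hw)]
    rw [Finset.sum_const, Finset.card_range]
    funext i
    rw [Pi.smul_apply, nsmul_eq_mul, CharTwo.natCast_eq_ite, if_neg (Nat.not_even_iff_odd.2 hm), one_mul]
  rw [← h1, ← add_one_mulVec, Matrix.mulVec_mulVec, hPs, Matrix.zero_mulVec]

theorem fix_sup_mov {s : Matrix Pts Pts K} {m : ℕ} (hm : Odd m) (hs : s ^ m = 1) :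
    fixS s ⊔ movS s = ⊤ := by
  refine Submodule.eq_top_of_disjoint _ _ ?_ (disjoint_fix_mov hm hs)
  rw [finrank_fix_add_mov, Module.finrank_pi]
  simp

/-- A subspace which is orthogonal to a complement of it contains a vector which is not singular. -/
theorem exists_qf_ne {A B : Submodule K (Pts → K)} (hAB : A ⊔ B = ⊤)
    (horth : ∀ a ∈ A, ∀ b ∈ B, pol a b = 0) (hA : A ≠ ⊥) : ∃ a ∈ A, qf a ≠ 0 := by
  by_contra h
  push Not at h
  obtain ⟨a, ha, ha0⟩ := (Submodule.ne_bot_iff A).1 hA
  refine ha0 (pol_nondeg fun y => ?_)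
  obtain ⟨a', ha', b, hb, rfl⟩ := Submodule.mem_sup.1 (hAB ▸ Submodule.mem_top : y ∈ A ⊔ B)
  rw [pol_add_right, horth a ha b hb, add_zero]
  have h2 := qf_add a a'
  rw [h _ (A.add_mem ha ha'), h a ha, h a' ha', add_zero, zero_add] at h2
  exact h2.symm

theorem exists_qf_fix {s : Matrix Pts Pts K} (hi : Iso s) {m : ℕ} (hm : Odd m) (hs : s ^ m = 1)
    (h : fixS s ≠ ⊥) : ∃ w, s *ᵥ w = w ∧ qf w ≠ 0 := by
  obtain ⟨w, hw, hq⟩ := exists_qf_ne (fix_sup_mov hm hs) (fun a ha b hb => pol_fix_mov hi ha hb) h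
  exact ⟨w, mem_fixS.1 hw, hq⟩

theorem exists_qf_mov {s : Matrix Pts Pts K} (hi : Iso s) {m : ℕ} (hm : Odd m) (hs : s ^ m = 1)
    (h : movS s ≠ ⊥) : ∃ w ∈ movS s, qf w ≠ 0 :=
  exists_qf_ne ((sup_comm _ _).trans (fix_sup_mov hm hs))
    (fun a ha b hb => (pol_comm a b).trans (pol_fix_mov hi hb ha)) h

theorem finrank_fix_ne_one {s : Matrix Pts Pts K} (hi : Iso s) {m : ℕ} (hm : Odd m) (hs : s ^ m = 1) :
    finrank K (fixS s) ≠ 1 := by
  intro h
  obtain ⟨⟨w, hw⟩, hw0, hspan⟩ := finrank_eq_one_iff'.1 h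
  refine hw0 (Subtype.ext (pol_nondeg (x := w) fun y => ?_))
  obtain ⟨a, ha, b, hb, rfl⟩ := Submodule.mem_sup.1
    (fix_sup_mov hm hs ▸ Submodule.mem_top : y ∈ fixS s ⊔ movS s)
  obtain ⟨c, hc⟩ := hspan ⟨a, ha⟩
  have hca : c • w = a := congrArg Subtype.val hc
  rw [pol_add_right, pol_fix_mov hi hw hb, add_zero, ← hca, pol_comm, pol_smul_left, pol_self,
    mul_zero]

/-! ### Field automorphisms -/

/-- The squaring automorphism applied to the entries, `k` times. -/
noncomputable def fro (k : ℕ) : K →+* K := iterateFrobenius K 2 k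

theorem fro_apply (k : ℕ) (x : K) : fro k x = x ^ 2 ^ k := iterateFrobenius_def 2 k x

theorem fro_comp (x : K) : fro 1 (fro 1 x) = fro 2 x := by
  simp only [fro_apply, ← pow_mul]; norm_num

theorem fro_injective (k : ℕ) : Function.Injective (fro k : K → K) :=
  RingHom.injective (fro (K := K) k)

theorem qf_map {L : Type*} [Field L] (f : K →+* L) (x : Pts → K) : qf (f ∘ x) = f (qf x) := by
  simp [qf]

theorem tri_map {L : Type*} [Field L] (f : K →+* L) (x y : Pts → K) :
    tri (f ∘ x) (f ∘ y) = f ∘ tri x y := by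
  funext c
  rcases c with c | c <;> fin_cases c <;> simp [tri]

theorem map_mulVec' {L : Type*} [Field L] (f : K →+* L) (A : Matrix Pts Pts K) (x : Pts → K) :
    (A.map f) *ᵥ (f ∘ x) = f ∘ (A *ᵥ x) :=
  funext fun i => (RingHom.map_mulVec f A x i).symm

/-- The matrices commuting with the triality product and preserving the form. -/
structure Good (g : Matrix Pts Pts K) : Prop where
  qf_eq : ∀ v, qf (g *ᵥ v) = qf v
  tri_eq : ∀ x y, tri (g *ᵥ x) ((g.map (fro 1)) *ᵥ y) = (g.map (fro 2)) *ᵥ tri x y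

theorem iso_of_qf {g : Matrix Pts Pts K} (h : ∀ v, qf (g *ᵥ v) = qf v) : Iso g := fun x y => by
  have h1 := qf_add (g *ᵥ x) (g *ᵥ y)
  rw [← Matrix.mulVec_add, h, h, h, qf_add] at h1
  exact (add_left_cancel h1).symm

theorem Good.iso {g : Matrix Pts Pts K} (h : Good g) : Iso g := iso_of_qf h.qf_eq

theorem Good.one : Good (1 : Matrix Pts Pts K) :=
  ⟨fun v => by simp, fun x y => by simp [Matrix.map_one]⟩

theorem Good.mul {g h : Matrix Pts Pts K} (hg : Good g) (hh : Good h) : Good (g * h) := by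
  refine ⟨fun v => by rw [← Matrix.mulVec_mulVec, hg.qf_eq, hh.qf_eq], fun x y => ?_⟩
  rw [Matrix.map_mul, Matrix.map_mul, ← Matrix.mulVec_mulVec, ← Matrix.mulVec_mulVec, hg.tri_eq,
    hh.tri_eq, Matrix.mulVec_mulVec]

theorem Good.pow {g : Matrix Pts Pts K} (hg : Good g) : ∀ n, Good (g ^ n)
  | 0 => pow_zero g ▸ Good.one
  | n + 1 => pow_succ g n ▸ (hg.pow n).mul hg

/-! ### Eigenvalues -/

variable {g : Matrix Pts Pts K}

/-- A matrix of the left product. -/
noncomputable def triMat (w : Pts → K) : Matrix Pts Pts K :=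
  LinearMap.toMatrix' ⟨⟨fun y => tri w y, tri_add_right w⟩, fun c y => tri_smul_right c w y⟩

theorem triMat_mulVec (w y : Pts → K) : triMat w *ᵥ y = tri w y := by
  rw [triMat, LinearMap.toMatrix'_mulVec]; rfl

theorem charpoly_frob_fixed (hg : Good g) {w : Pts → K} (hw : g *ᵥ w = w) (hq : qf w ≠ 0) :
    g.charpoly.map (fro 1) = g.charpoly := by
  have hunit : IsUnit (triMat w) := by
    rw [← Matrix.mulVec_injective_iff_isUnit]
    intro y y' hyy
    have h0 : triMat w *ᵥ (y + y') = 0 := by rw [Matrix.mulVec_add]; exact add_eq_zero'.2 hyy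
    rw [triMat_mulVec] at h0
    exact add_eq_zero'.1 (tri_left_inj hq h0)
  have hcomm : triMat w * g.map (fro 1) = g.map (fro 2) * triMat w := by
    refine Matrix.ext_iff_mulVec.2 fun y => ?_
    rw [← Matrix.mulVec_mulVec, ← Matrix.mulVec_mulVec, triMat_mulVec, triMat_mulVec, ← hg.tri_eq, hw]
  obtain ⟨M, hM⟩ := hunit
  have h1 : g.map (fro 2) = M.val * g.map (fro 1) * M⁻¹.val := by
    rw [hM, hcomm, ← hM, mul_assoc, Units.mul_inv, mul_one]
  have h2 := congrArg Matrix.charpoly h1
  rw [Matrix.coe_units_inv, Matrix.charpoly_units_conj, Matrix.charpoly_map, Matrix.charpoly_map] at h2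
  ext i
  have h3 := congrArg (fun p => Polynomial.coeff p i) h2
  simp only [Polynomial.coeff_map] at h3 ⊢
  exact fro_injective 1 ((fro_comp _).trans h3)

theorem charpoly_inv (hg : Iso g) {g' : Matrix Pts Pts K} (h : g' * g = 1) :
    g'.charpoly = g.charpoly := by
  let J : Matrix Pts Pts K := Matrix.of fun a b => if b = a.swap then 1 else 0
  have hJ : ∀ x y : Pts → K, x ⬝ᵥ (J *ᵥ y) = pol x y := fun x y => by
    have : J *ᵥ y = fun a => y a.swap := by
      funext a
      simp [J, Matrix.mulVec, dotProduct]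
    rw [this]
    simp [dotProduct, pol, Fin.sum_univ_four]
    ring
  have hJJ : J * J = 1 := by
    refine Matrix.ext_iff_mulVec.2 fun y => ?_
    have h1 : ∀ z : Pts → K, J *ᵥ z = fun a => z a.swap := fun z => by
      funext a; simp [J, Matrix.mulVec, dotProduct]
    rw [← Matrix.mulVec_mulVec, h1, h1, Matrix.one_mulVec]
    funext a; simp
  have hgJ : gᵀ * J * g = J := by
    refine Matrix.ext fun a b => ?_
    have h1 := hg (Pi.single a 1) (Pi.single b 1)
    rw [← hJ, ← hJ, Matrix.mulVec_single_one, Matrix.mulVec_single_one, Matrix.mulVec_single_one,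
      single_one_dotProduct] at h1
    rw [show J a b = J.col b a from rfl, ← h1, mul_assoc]
    simp [Matrix.mul_apply, Matrix.mulVec, dotProduct]
  let M : (Matrix Pts Pts K)ˣ := ⟨J, J, hJJ, hJJ⟩
  have hg' : g * g' = 1 := mul_eq_one_comm.1 h
  have h1 : g' = M.val * gᵀ * M⁻¹.val := by
    show g' = J * gᵀ * J
    have h2 : J * (gᵀ * J * g) * g' = J * gᵀ * J := by
      rw [mul_assoc J, mul_assoc _ g g', hg', mul_one, ← mul_assoc]
    rw [← h2, hgJ, hJJ, one_mul]
  rw [h1, Matrix.coe_units_inv, Matrix.charpoly_units_conj, Matrix.charpoly_transpose]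

variable {E : Type*} [Field E] [Algebra K E]

/-- The eigenvalues in an extension field. -/
noncomputable def eig (E : Type*) [Field E] [Algebra K E] (g : Matrix Pts Pts K) : Multiset E :=
  (g.charpoly.map (algebraMap K E)).roots

theorem mem_eig {l : E} : l ∈ eig E g ↔ (g.charpoly.map (algebraMap K E)).eval l = 0 :=
  (Polynomial.mem_roots ((Matrix.charpoly_monic g).map _).ne_zero)

theorem mem_eig_det {l : E} :
    l ∈ eig E g ↔ (Matrix.scalar Pts l - g.map (algebraMap K E)).det = 0 := by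
  rw [mem_eig, ← Matrix.charpoly_map, Matrix.eval_charpoly]

theorem eig_pow {l : E} {m : ℕ} (h : g ^ m = 1) (hl : l ∈ eig E g) : l ^ m = 1 := by
  obtain ⟨v, hv, hgv⟩ := Matrix.exists_mulVec_eq_zero_iff.2 (mem_eig_det.1 hl)
  have h1 : g.map (algebraMap K E) *ᵥ v = l • v := by
    rw [Matrix.sub_mulVec, sub_eq_zero] at hgv
    rw [← hgv, Matrix.scalar_apply, ← Matrix.smul_one_eq_diagonal, Matrix.smul_mulVec, Matrix.one_mulVec]
  have h2 : ∀ j : ℕ, (g.map (algebraMap K E)) ^ j *ᵥ v = l ^ j • v := by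
    intro j
    induction j with
    | zero => simp
    | succ j ih => rw [pow_succ, ← Matrix.mulVec_mulVec, h1, Matrix.mulVec_smul, ih, smul_smul, pow_succ']
  have h3 := h2 m
  rw [← RingHom.mapMatrix_apply, ← map_pow, h, map_one, Matrix.one_mulVec] at h3
  obtain ⟨i, hi⟩ := Function.ne_iff.1 hv
  have h4 := congrFun h3 i
  rw [Pi.smul_apply, smul_eq_mul] at h4
  exact (mul_eq_right₀ hi).1 h4.symm

theorem eig_sq [CharP E 2] (hf : g.charpoly.map (fro 1) = g.charpoly) {l : E} (hl : l ∈ eig E g) :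
    l ^ 2 ∈ eig E g := by
  rw [mem_eig] at hl ⊢
  have h1 : (algebraMap K E).comp (fro 1) = (frobenius E 2).comp (algebraMap K E) :=
    RingHom.ext fun x => by simp [fro_apply, frobenius_def]
  calc (g.charpoly.map (algebraMap K E)).eval (l ^ 2)
      = ((g.charpoly.map (fro 1)).map (algebraMap K E)).eval (frobenius E 2 l) := by
        rw [hf, frobenius_def]
    _ = frobenius E 2 ((g.charpoly.map (algebraMap K E)).eval l) := by
        rw [Polynomial.map_map, h1, ← Polynomial.map_map, Polynomial.eval_map, Polynomial.eval₂_at_apply]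
    _ = 0 := by rw [hl, map_zero]

theorem eig_inv (hg : Iso g) {m : ℕ} (hm : m ≠ 0) (h : g ^ m = 1) {l : E} (hl : l ∈ eig E g) :
    l⁻¹ ∈ eig E g := by
  have hg' : g ^ (m - 1) * g = 1 := by rw [← pow_succ, Nat.sub_add_cancel (Nat.pos_of_ne_zero hm), h]
  have hl0 : l ≠ 0 := fun e => by
    have := eig_pow h hl
    rw [e, zero_pow hm] at this
    exact zero_ne_one this
  have hc := charpoly_inv hg hg'
  rw [mem_eig_det] at hl
  have h2 : (g.map (algebraMap K E)) * (g ^ (m - 1)).map (algebraMap K E) = 1 := by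
    rw [← Matrix.map_mul, mul_eq_one_comm.1 hg', Matrix.map_one _ (map_zero _) (map_one _)]
  have h1 : Matrix.scalar Pts l⁻¹ - (g ^ (m - 1)).map (algebraMap K E) =
      (-l⁻¹) • ((Matrix.scalar Pts l - g.map (algebraMap K E)) * (g ^ (m - 1)).map (algebraMap K E)) := by
    simp only [Matrix.scalar_apply, ← Matrix.smul_one_eq_diagonal]
    rw [sub_mul, h2, smul_mul_assoc, one_mul, smul_sub, smul_smul, neg_mul, inv_mul_cancel₀ hl0]
    module
  rw [mem_eig, ← hc, ← Matrix.charpoly_map, Matrix.eval_charpoly, h1, Matrix.det_smul, Matrix.det_mul,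
    hl, zero_mul, mul_zero]

theorem exists_eig_pow_ne [IsAlgClosed E] {m k : ℕ} (hm : Odd m) (h : g ^ m = 1) (hk : g ^ k ≠ 1) :
    ∃ l ∈ eig E g, l ^ k ≠ 1 := by
  by_contra hcon
  push Not at hcon
  have hk0 : k ≠ 0 := fun e => hk (e ▸ pow_zero g)
  have hdvd : minpoly K g ∣ Polynomial.X ^ m - 1 := minpoly.dvd K g (by simp [h])
  have hsep : (minpoly K g).Separable := by
    refine Polynomial.Separable.of_dvd ?_ hdvd
    rw [Polynomial.X_pow_sub_one_separable_iff, CharTwo.natCast_eq_ite,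
      if_neg (Nat.not_even_iff_odd.2 hm)]
    exact one_ne_zero
  have hmon : (minpoly K g).Monic := minpoly.monic (Matrix.isIntegral g)
  set μ := (minpoly K g).map (algebraMap K E) with hμ
  have hμdvd : μ ∣ Polynomial.X ^ k - 1 := by
    have hsplit := IsAlgClosed.splits μ
    rw [hsplit.eq_prod_roots_of_monic (hmon.map _)]
    refine (Multiset.prod_X_sub_C_dvd_iff_le_roots ?_ _).2 ?_
    · exact (Polynomial.monic_X_pow_sub_C (1 : E) hk0).ne_zero
    refine (Multiset.le_iff_subset (Polynomial.nodup_roots (hsep.map))).2 fun l hl => ?_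
    have hl' : l ∈ eig E g := by
      rw [mem_eig]
      exact Polynomial.eval_eq_zero_of_dvd_of_eval_eq_zero
        (Polynomial.map_dvd _ (Matrix.minpoly_dvd_charpoly g))
        ((Polynomial.mem_roots (hmon.map _).ne_zero).1 hl)
    rw [Polynomial.mem_roots (by simpa using (Polynomial.monic_X_pow_sub_C (1 : E) hk0).ne_zero)]
    simp [hcon l hl']
  have h3 : minpoly K g ∣ Polynomial.X ^ k - 1 := by
    refine (Polynomial.map_dvd_map' (algebraMap K E)).1 ?_
    simpa using hμdvd
  obtain ⟨c, hc⟩ := h3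
  have h4 := congrArg (Polynomial.aeval g) hc
  rw [map_mul, minpoly.aeval, zero_mul, map_sub, map_pow, Polynomial.aeval_X, map_one, sub_eq_zero] at h4
  exact hk h4

end CfsgLib.TrialityIso
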