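import Cfsg.Agent.Lib.TrialityIso.FieldEight
import Cfsg.Agent.Lib.TrialityIso.Natural
import Cfsg.Agent.Lib.AlmostAll.ModuleExt

/-!
Groups of arbitrarily large order with the element orders of the twisted group of type D4 over the field
with eight elements: extensions of sums of copies of the natural module.
-/

set_option autoImplicit false
set_option linter.unusedSectionVars false
set_option linter.style.haveILetI false
set_option linter.unusedVariables false

namespace CfsgLib.TrialityIso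

open Cfsg.Lie CfsgLib.Chev Matrix

/-- The code of a vector. -/
def encV (v : Pts → F8) : ℕ :=
  (v (.inl 0)).code + 8 * (v (.inl 1)).code + 8 ^ 2 * (v (.inl 2)).code + 8 ^ 3 * (v (.inl 3)).code +
  8 ^ 4 * (v (.inr 0)).code + 8 ^ 5 * (v (.inr 1)).code + 8 ^ 6 * (v (.inr 2)).code +
  8 ^ 7 * (v (.inr 3)).code

/-- The vector of a code. -/
def decV (n : ℕ) : Pts → F8 :=
  Sum.elim (fun i => F8.mk (Fin.ofNat 8 (n / 8 ^ i.val))) fun i => F8.mk (Fin.ofNat 8 (n / 8 ^ (4 + i.val)))

theorem decV_encV (v : Pts → F8) : decV (encV v) = v := by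
  have hlt : ∀ a : F8, a.code < 8 := fun a => Fin.isLt a
  have := hlt (v (.inl 0)); have := hlt (v (.inl 1)); have := hlt (v (.inl 2)); have := hlt (v (.inl 3))
  have := hlt (v (.inr 0)); have := hlt (v (.inr 1)); have := hlt (v (.inr 2)); have := hlt (v (.inr 3))
  funext x
  rcases x with i | i <;> fin_cases i <;>
    refine Fin.ext (?_ : _ % 8 = F8.code _) <;> simp [encV] <;> omega

/-- A product of root elements applied to a vector. -/
def wordAct (w : List (ℕ × F8)) (v : Pts → F8) : Pts → F8 :=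
  w.foldr (fun p acc => rootAct (rootPair p.1).1 (rootPair p.1).2 p.2 acc) v

/-- A product of root elements applied to a code. -/
def stepV : List (ℕ × F8) → ℕ → ℕ
  | [], n => n
  | p :: w, n => encV (rootAct (rootPair p.1).1 (rootPair p.1).2 p.2 (decV (stepV w n)))

/-- Iterations of a product on a code. -/
def iterV (w : List (ℕ × F8)) : ℕ → ℕ → ℕ
  | 0, n => n
  | k + 1, n => iterV w k (stepV w n)

theorem decV_stepV : ∀ (w : List (ℕ × F8)) (n : ℕ), decV (stepV w n) = wordAct w (decV n)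
  | [], n => rfl
  | p :: w, n => by rw [stepV, decV_encV, decV_stepV w n]; rfl

theorem decV_iterV (w : List (ℕ × F8)) : ∀ k n, decV (iterV w k n) = (wordAct w)^[k] (decV n)
  | 0, n => rfl
  | k + 1, n => by rw [iterV, decV_iterV w k, decV_stepV, Function.iterate_succ_apply]

/-- The product in the natural representation. -/
noncomputable def wordGL (w : List (ℕ × F8)) : GL Pts F8 := (w.map fun p => natEl F8 p.1 p.2).prod

theorem wordGL_mulVec : ∀ (w : List (ℕ × F8)), (∀ p ∈ w, p.1 < 24) → ∀ v : Pts → F8,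
    (wordGL w : Matrix Pts Pts F8) *ᵥ v = wordAct w v
  | [], _, v => by simp [wordGL, wordAct]
  | p :: w, h, v => by
    rw [show wordGL (p :: w) = natEl F8 p.1 p.2 * wordGL w by simp [wordGL], Units.val_mul,
      ← Matrix.mulVec_mulVec, natEl_mulVec (h p List.mem_cons_self),
      wordGL_mulVec w (fun q hq => h q (List.mem_cons_of_mem _ hq))]
    rfl

theorem wordGL_pow_mulVec (w : List (ℕ × F8)) (hw : ∀ p ∈ w, p.1 < 24) (k : ℕ) (v : Pts → F8) :
    ((wordGL w ^ k : GL Pts F8) : Matrix Pts Pts F8) *ᵥ v = (wordAct w)^[k] v := by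
  induction k generalizing v with
  | zero => simp
  | succ k ih =>
    rw [pow_succ, Units.val_mul, ← Matrix.mulVec_mulVec, wordGL_mulVec w hw, ih,
      Function.iterate_succ_apply]

/-- The codes of the basis. -/
def baseCodes : List ℕ := [1, 8, 64, 512, 4096, 32768, 262144, 2097152]

theorem decV_base : ∀ a : Pts, ∃ c ∈ baseCodes, ∀ b : Pts, decV c b = if b = a then 1 else 0 := by
  decide +kernel

theorem wordGL_orderOf (w : List (ℕ × F8)) (hw : ∀ p ∈ w, p.1 < 24) (n : ℕ) (hn : 0 < n)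
    (h : baseCodes.all (fun c => iterV w n c == c) = true)
    (hp : ∀ p ∈ n.primeFactors, ∃ c ∈ baseCodes, ∃ b : Pts, decV (iterV w (n / p) c) b ≠ decV c b) :
    orderOf (wordGL w) = n := by
  have h1 : wordGL w ^ n = 1 := by
    apply Units.ext
    refine Matrix.ext fun i a => ?_
    obtain ⟨c, hc, hcb⟩ := decV_base a
    have he : decV c = Pi.single a 1 := funext fun b => by rw [hcb b, Pi.single_apply]
    rw [List.all_eq_true] at h
    have h2 := wordGL_pow_mulVec w hw n (Pi.single a 1)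
    rw [← he, ← decV_iterV, beq_iff_eq.1 (h c hc), he, Matrix.mulVec_single_one] at h2
    have h3 := congrFun h2 i
    rw [Matrix.col_apply] at h3
    rw [h3, Units.val_one, Matrix.one_apply, Pi.single_apply]
  refine orderOf_eq_of_pow_and_pow_div_prime hn h1 fun p pp pd hpow => ?_
  obtain ⟨c, hc, b, hb⟩ := hp p (Nat.mem_primeFactors.2 ⟨pp, pd, hn.ne'⟩)
  apply hb
  have h2 := wordGL_pow_mulVec w hw (n / p) (decV c)
  rw [hpow, Units.val_one, Matrix.one_mulVec, ← decV_iterV] at h2
  exact (congrFun h2 b).symm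

/-- The four words. -/
def word8 : List (ℕ × F8) := [(14, 1), (18, 1), (13, 1), (12, 1)]
/-- The word of order twelve. -/
def word12 : List (ℕ × F8) := [(14, 1), (18, 1), (13, 1), (12, 1), (5, 1), (10, 1), (11, 1)]
/-- The word of order eighteen. -/
def word18 : List (ℕ × F8) :=
  [(14, 1), (18, 1), (13, 1), (12, 1), (5, F8.mk 2), (10, F8.mk 2 ^ 2), (11, F8.mk 2 ^ (2 ^ 2))]
/-- The word of order twenty-eight. -/
def word28 : List (ℕ × F8) :=
  [(14, 1), (18, F8.mk 2), (13, F8.mk 2 ^ 2), (12, F8.mk 2 ^ (2 ^ 2)), (5, F8.mk 4), (10, F8.mk 4 ^ 2),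
    (11, F8.mk 4 ^ (2 ^ 2))]

theorem order8 : orderOf (wordGL word8) = 8 :=
  wordGL_orderOf _ (by decide) 8 (by norm_num) (by decide +kernel) (by
    rw [show Nat.primeFactors 8 = {2} by decide +kernel]; decide +kernel)

theorem order12 : orderOf (wordGL word12) = 12 :=
  wordGL_orderOf _ (by decide) 12 (by norm_num) (by decide +kernel) (by
    rw [show Nat.primeFactors 12 = {2, 3} by decide +kernel]; decide +kernel)

theorem order18 : orderOf (wordGL word18) = 18 :=
  wordGL_orderOf _ (by decide) 18 (by norm_num) (by decide +kernel) (by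
    rw [show Nat.primeFactors 18 = {2, 3} by decide +kernel]; decide +kernel)

theorem order28 : orderOf (wordGL word28) = 28 :=
  wordGL_orderOf _ (by decide) 28 (by norm_num) (by decide +kernel) (by
    rw [show Nat.primeFactors 28 = {2, 7} by decide +kernel]; decide +kernel)

/-! ### Generators -/

theorem fixed_mem {r : ℕ} (hr : r = 14 ∨ r = 9) {t : F8} (ht : t ^ 2 = t) :
    elX chevD4 F8 r t ∈ twistedD4 F8 2 := by
  refine Subgroup.subset_closure ⟨[(r, t)], Or.inl ⟨t, ht, r, ?_, rfl⟩, ?_⟩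
  · rcases hr with rfl | rfl <;> simp [d4p2, d4m2]
  · rw [coe_elX CfsgLib.Chev.D4.checked F8 (show r < chevD4.nroots by rcases hr with rfl | rfl <;> decide)]
    simp [ChevalleyDatum.wordMat]

theorem triple_mem {a b c : ℕ} (h : (a, b, c) = (18, 13, 12) ∨ (a, b, c) = (5, 10, 11)) (t : F8) :
    elX chevD4 F8 a t * elX chevD4 F8 b (t ^ 2) * elX chevD4 F8 c (t ^ (2 ^ 2)) ∈ twistedD4 F8 2 := by
  have h24 : a < chevD4.nroots ∧ b < chevD4.nroots ∧ c < chevD4.nroots := by
    rcases h with h | h <;> cases h <;> decide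
  refine Subgroup.subset_closure ⟨[(a, t), (b, t ^ 2), (c, t ^ (2 ^ 2))], Or.inr ⟨t, (a, b, c), ?_, rfl⟩, ?_⟩
  · rcases h with h | h <;> rw [h] <;> simp [d4p1, d4p3, d4p4, d4m1, d4m3, d4m4]
  · rw [Units.val_mul, Units.val_mul, coe_elX CfsgLib.Chev.D4.checked F8 h24.1,
      coe_elX CfsgLib.Chev.D4.checked F8 h24.2.1, coe_elX CfsgLib.Chev.D4.checked F8 h24.2.2]
    simp [ChevalleyDatum.wordMat, mul_assoc]

/-- The element orders which are doubled. -/
theorem exists_orders :
    ∀ n ∈ ({1, 2, 3, 4, 6, 7, 9, 14} : Finset ℕ), ∃ g : ↥(twistedD4 F8 2), orderOf g = 2 * n := by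
  obtain ⟨ρ, hinj, -, hone, hthree, -⟩ := exists_twisted_natural (K := F8) F8.card
  have hX : ∀ r, r = 14 ∨ r = 9 → ∃ g : ↥(twistedD4 F8 2), ρ g = natEl F8 r 1 := fun r hr =>
    ⟨⟨_, fixed_mem hr (one_pow 2)⟩, hone r (by omega) 1 _⟩
  have hT : ∀ a b c, ((a, b, c) = (18, 13, 12) ∨ (a, b, c) = (5, 10, 11)) → ∀ t : F8,
      ∃ g : ↥(twistedD4 F8 2), ρ g = natEl F8 a t * natEl F8 b (t ^ 2) * natEl F8 c (t ^ (2 ^ 2)) :=
    fun a b c h t => ⟨⟨_, triple_mem h t⟩, hthree a b c
      (by rcases h with h | h <;> cases h <;> norm_num) (by rcases h with h | h <;> cases h <;> norm_num)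
      (by rcases h with h | h <;> cases h <;> norm_num) t _ _ _⟩
  obtain ⟨x, hx⟩ := hX 14 (Or.inl rfl)
  obtain ⟨p1, hp1⟩ := hT 18 13 12 (Or.inl rfl) 1
  obtain ⟨p2, hp2⟩ := hT 18 13 12 (Or.inl rfl) (F8.mk 2)
  obtain ⟨n1, hn1⟩ := hT 5 10 11 (Or.inr rfl) 1
  obtain ⟨n2, hn2⟩ := hT 5 10 11 (Or.inr rfl) (F8.mk 2)
  obtain ⟨n4, hn4⟩ := hT 5 10 11 (Or.inr rfl) (F8.mk 4)
  have e8 : orderOf (x * p1) = 8 := by
    rw [← orderOf_injective ρ hinj, map_mul, hx, hp1]
    convert order8 using 2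
    simp [wordGL, word8, mul_assoc]
  have e12 : orderOf (x * p1 * n1) = 12 := by
    rw [← orderOf_injective ρ hinj, map_mul, map_mul, hx, hp1, hn1]
    convert order12 using 2
    simp [wordGL, word12, mul_assoc]
  have e18 : orderOf (x * p1 * n2) = 18 := by
    rw [← orderOf_injective ρ hinj, map_mul, map_mul, hx, hp1, hn2]
    convert order18 using 2
    simp [wordGL, word18, mul_assoc]
  have e28 : orderOf (x * p2 * n4) = 28 := by
    rw [← orderOf_injective ρ hinj, map_mul, map_mul, hx, hp2, hn4]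
    convert order28 using 2
    simp [wordGL, word28, mul_assoc]
  intro n hn
  simp only [Finset.mem_insert, Finset.mem_singleton] at hn
  rcases hn with rfl | rfl | rfl | rfl | rfl | rfl | rfl | rfl
  · exact ⟨(x * p1) ^ 4, by rw [orderOf_pow' _ (by norm_num), e8]; norm_num⟩
  · exact ⟨(x * p1) ^ 2, by rw [orderOf_pow' _ (by norm_num), e8]; norm_num⟩
  · exact ⟨(x * p1 * n1) ^ 2, by rw [orderOf_pow' _ (by norm_num), e12]; norm_num⟩
  · exact ⟨x * p1, e8⟩
  · exact ⟨x * p1 * n1, e12⟩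
  · exact ⟨(x * p2 * n4) ^ 2, by rw [orderOf_pow' _ (by norm_num), e28]; norm_num⟩
  · exact ⟨x * p1 * n2, e18⟩
  · exact ⟨x * p2 * n4, e28⟩

/-- The action of the general linear group on vectors. -/
instance instAct : DistribMulAction (GL Pts F8) (Pts → F8) where
  smul g v := (g : Matrix Pts Pts F8) *ᵥ v
  one_smul v := Matrix.one_mulVec v
  mul_smul g h v := (Matrix.mulVec_mulVec v (g : Matrix Pts Pts F8) (h : Matrix Pts Pts F8)).symm
  smul_zero g := Matrix.mulVec_zero _
  smul_add g v w := Matrix.mulVec_add _ v w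

theorem exists_isospectral_eight (N : ℕ) :
    ∃ (H : Type) (_ : Group H) (_ : Fintype H), N < Fintype.card H ∧
      Set.range (orderOf : H → ℕ) = Set.range (orderOf : ↥(twistedD4 F8 2) → ℕ) := by
  obtain ⟨ρ, hinj, hgood, -, -, huni⟩ := exists_twisted_natural (K := F8) F8.card
  letI : DistribMulAction ↥(twistedD4 F8 2) (Pts → F8) := DistribMulAction.compHom _ ρ
  let H := CfsgLib.ModuleExt.Ext ↥(twistedD4 F8 2) (Pts → F8) (N + 1)
  haveI : Fintype H := Fintype.ofFinite H
  refine ⟨H, inferInstance, inferInstance, ?_, ?_⟩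
  · have hw : (Pi.single (.inl 0) 1 : Pts → F8) ≠ 0 := by
      intro h
      have := congrFun h (.inl 0)
      simp at this
    have := CfsgLib.ModuleExt.le_card (X := ↥(twistedD4 F8 2)) (k := N + 1) hw
    rw [Nat.card_eq_fintype_card] at this
    exact this
  rw [CfsgLib.ModuleExt.range_orderOf Nat.prime_two
    (fun w : Pts → F8 => funext fun i => by rw [Pi.smul_apply, two_nsmul, CharTwo.add_self_eq_zero]; rfl)
    (Nat.succ_pos N)]
  ext n
  constructor
  · rintro (⟨g, rfl⟩ | ⟨g, ⟨w, hw⟩, rfl⟩)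
    · exact ⟨g, rfl⟩
    · have hnm : CfsgLib.ModuleExt.nm g w =
          (∑ j ∈ Finset.range (orderOf g), (ρ g : Matrix Pts Pts F8) ^ j) *ᵥ w := by
        rw [CfsgLib.ModuleExt.nm, Matrix.sum_mulVec]
        refine Finset.sum_congr rfl fun j _ => ?_
        show ((ρ (g ^ j) : GL Pts F8) : Matrix Pts Pts F8) *ᵥ w = _
        rw [map_pow, Units.val_pow_eq_pow_val]
      have hq : IsPrimePow 2 := Nat.prime_two.isPrimePow
      have hdvd : orderOf g ∣ 2 ^ 12 * 3 ^ 4 * 7 ^ 2 * 13 := by
        have h := orderOf_dvd_natCard g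
        rw [CfsgLib.Twisted.D4.card_group_twisted hq F8.card] at h
        norm_num at h ⊢
        exact h
      have hpow : (ρ g : Matrix Pts Pts F8) ^ orderOf g = 1 := by
        rw [← Units.val_pow_eq_pow_val, ← map_pow, pow_orderOf_eq_one, map_one]; rfl
      have hmin : ∀ j, 0 < j → j < orderOf g → (ρ g : Matrix Pts Pts F8) ^ j ≠ 1 := by
        intro j hj hjo h
        refine pow_ne_one_of_lt_orderOf hj.ne' hjo (hinj ?_)
        apply Units.ext
        rw [map_pow, map_one, Units.val_pow_eq_pow_val, h]; rfl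
      have huni' : ∀ e a : ℕ, ((ρ g : Matrix Pts Pts F8) ^ e) ^ 2 ^ a = 1 →
          ((ρ g : Matrix Pts Pts F8) ^ e + 1) ^ 7 = 0 := by
        intro e a h
        rw [← Units.val_pow_eq_pow_val, ← map_pow]
        refine huni (g ^ e) a (hinj ?_)
        apply Units.ext
        rw [map_pow, map_one, Units.val_pow_eq_pow_val, map_pow, Units.val_pow_eq_pow_val, h]; rfl
      rcases norm_eq_zero_or_small F8.card (hgood g) hdvd hpow hmin huni' with h | h
      · exact absurd (by rw [hnm, h, Matrix.zero_mulVec]) hw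
      · obtain ⟨g', hg'⟩ := exists_orders _ h
        exact ⟨g', hg'⟩
  · rintro ⟨g, rfl⟩
    exact Or.inl ⟨g, rfl⟩

theorem glMap_twisted {K L : Type*} [Field K] [Field L] (f : K →+* L) {q : ℕ} {g : GL chevD4.Idx K}
    (hg : g ∈ twistedD4 K q) : CfsgLib.ChevField.glMap chevD4 f g ∈ twistedD4 L q := by
  suffices h : twistedD4 K q ≤ (twistedD4 L q).comap (CfsgLib.ChevField.glMap chevD4 f) from h hg
  rw [twistedD4, ChevalleyDatum.genSubgroup, Subgroup.closure_le]
  rintro g ⟨w, hw, hg⟩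
  refine Subgroup.subset_closure ⟨w.map fun p => (p.1, f p.2), ?_, ?_⟩
  · rcases hw with ⟨t, ht, r, hr, rfl⟩ | ⟨t, rs, hrs, rfl⟩
    · exact Or.inl ⟨f t, by rw [← map_pow, ht], r, hr, rfl⟩
    · exact Or.inr ⟨f t, rs, hrs, by simp [map_pow]⟩
  · rw [CfsgLib.ChevField.glMap_coe, hg, ChevalleyDatum.wordMat, ChevalleyDatum.wordMat,
      ← RingHom.mapMatrix_apply, map_list_prod, List.map_map, List.map_map]
    congr 1
    refine List.map_congr_left fun p _ => ?_
    exact CfsgLib.Chevalley.x_map_ringHom chevD4 f p.1 p.2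

/-- Isospectral groups of unbounded order. -/
theorem exists_isospectral {K : Type*} [Field K] [Fintype K] (hK : Fintype.card K = 8) (N : ℕ) :
    ∃ (H : Type) (_ : Group H) (_ : Fintype H), N < Fintype.card H ∧
      Set.range (orderOf : H → ℕ) = Set.range (orderOf : ↥(twistedD4 K 2) → ℕ) := by
  obtain ⟨H, iG, iF, hN, hH⟩ := exists_isospectral_eight N
  refine ⟨H, iG, iF, hN, hH.trans ?_⟩
  obtain ⟨e⟩ : Nonempty (F8 ≃+* K) :=
    ⟨FiniteField.ringEquivOfCardEq (by rw [F8.card, hK])⟩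
  let f : ↥(twistedD4 F8 2) →* ↥(twistedD4 K 2) :=
    ((CfsgLib.ChevField.glMap chevD4 e.toRingHom).comp (twistedD4 F8 2).subtype).codRestrict _
      fun g => glMap_twisted e.toRingHom g.2
  have hfi : Function.Injective f := fun a b h =>
    Subtype.ext (CfsgLib.ChevField.glMap_injective _ (congrArg Subtype.val h))
  have hfs : Function.Surjective f := by
    rintro ⟨g, hg⟩
    refine ⟨⟨_, glMap_twisted e.symm.toRingHom hg⟩, Subtype.ext ?_⟩
    show CfsgLib.ChevField.glMap chevD4 e.toRingHom (CfsgLib.ChevField.glMap chevD4 e.symm.toRingHom g) = g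
    ext i j
    simp [CfsgLib.ChevField.glMap_coe]
  ext n
  constructor
  · rintro ⟨g, rfl⟩
    exact ⟨f g, orderOf_injective f hfi g⟩
  · rintro ⟨g, rfl⟩
    obtain ⟨g', rfl⟩ := hfs g
    exact ⟨g', (orderOf_injective f hfi g').symm⟩

end CfsgLib.TrialityIso
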